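import Mathlib
import Cfsg.Agent.Rec.Tree

/-! Generated by tools/rec: the alternating group of degree six -/

set_option autoImplicit false
set_option maxRecDepth 100000
set_option linter.unusedVariables false
set_option exponentiation.threshold 100000

namespace Cfsg.Agent.Rec.J23

open Cfsg.Agent.Spor Cfsg.Agent.Rec

universe u

/-- Packed permutations of 6 points. -/
noncomputable def P6 : Ar := permAr (nat_lit 6) (nat_lit 0x50403020100)

theorem P6_ok : oneOK (nat_lit 6) (nat_lit 0x50403020100) = true := by decide +kernel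

noncomputable def cA6 : List ℕ := [(nat_lit 0x50403000201), (nat_lit 0x10504030200)]

noncomputable def A6_t : ST :=
(.node (nat_lit 0x30001020405) (.node (nat_lit 0x10304000205) (.node (nat_lit 0x405010302) (.node (nat_lit 0x205030104) (.node (nat_lit 0x105040203) (.node (nat_lit 0x103050204) (.node (nat_lit 0x102050403) (.node (nat_lit 0x102040305) (.leaf (nat_lit 0x102030504) (nat_lit 1792))
 (.leaf (nat_lit 0x102040305) (nat_lit 2048))
) (.node (nat_lit 0x103020405) (.leaf (nat_lit 0x102050403) (nat_lit 1536))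
 (.node (nat_lit 0x103040502) (.leaf (nat_lit 0x103020405) (nat_lit 2048))
 (.leaf (nat_lit 0x103040502) (nat_lit 2560))
))) (.node (nat_lit 0x104050302) (.node (nat_lit 0x104020503) (.leaf (nat_lit 0x103050204) (nat_lit 2304))
 (.node (nat_lit 0x104030205) (.leaf (nat_lit 0x104020503) (nat_lit 2305))
 (.leaf (nat_lit 0x104030205) (nat_lit 1793))
)) (.node (nat_lit 0x105020304) (.leaf (nat_lit 0x104050302) (nat_lit 2049))
 (.node (nat_lit 0x105030402) (.leaf (nat_lit 0x105020304) (nat_lit 1537))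
 (.leaf (nat_lit 0x105030402) (nat_lit 1281))
)))) (.node (nat_lit 0x203040105) (.node (nat_lit 0x201040503) (.node (nat_lit 0x201030405) (.leaf (nat_lit 0x105040203) (nat_lit 1025))
 (.leaf (nat_lit 0x201030405) (nat_lit 1793))
) (.node (nat_lit 0x201050304) (.leaf (nat_lit 0x201040503) (nat_lit 1537))
 (.node (nat_lit 0x203010504) (.leaf (nat_lit 0x201050304) (nat_lit 1281))
 (.leaf (nat_lit 0x203010504) (nat_lit 1793))
))) (.node (nat_lit 0x204030501) (.node (nat_lit 0x203050401) (.leaf (nat_lit 0x203040105) (nat_lit 2049))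
 (.node (nat_lit 0x204010305) (.leaf (nat_lit 0x203050401) (nat_lit 2305))
 (.leaf (nat_lit 0x204010305) (nat_lit 2304))
)) (.node (nat_lit 0x204050103) (.leaf (nat_lit 0x204030501) (nat_lit 2305))
 (.node (nat_lit 0x205010403) (.leaf (nat_lit 0x204050103) (nat_lit 2560))
 (.leaf (nat_lit 0x205010403) (nat_lit 1024))
))))) (.node (nat_lit 0x305010204) (.node (nat_lit 0x302010405) (.node (nat_lit 0x301020504) (.node (nat_lit 0x205040301) (.leaf (nat_lit 0x205030104) (nat_lit 1280))
 (.leaf (nat_lit 0x205040301) (nat_lit 768))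
) (.node (nat_lit 0x301040205) (.leaf (nat_lit 0x301020504) (nat_lit 1281))
 (.node (nat_lit 0x301050402) (.leaf (nat_lit 0x301040205) (nat_lit 1537))
 (.leaf (nat_lit 0x301050402) (nat_lit 1025))
))) (.node (nat_lit 0x304010502) (.node (nat_lit 0x302040501) (.leaf (nat_lit 0x302010405) (nat_lit 1537))
 (.node (nat_lit 0x302050104) (.leaf (nat_lit 0x302040501) (nat_lit 2049))
 (.leaf (nat_lit 0x302050104) (nat_lit 1793))
)) (.node (nat_lit 0x304020105) (.leaf (nat_lit 0x304010502) (nat_lit 2561))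
 (.node (nat_lit 0x304050201) (.leaf (nat_lit 0x304020105) (nat_lit 2049))
 (.leaf (nat_lit 0x304050201) (nat_lit 2305))
)))) (.node (nat_lit 0x402010503) (.node (nat_lit 0x401020305) (.node (nat_lit 0x305020401) (.leaf (nat_lit 0x305010204) (nat_lit 2817))
 (.node (nat_lit 0x305040102) (.leaf (nat_lit 0x305020401) (nat_lit 2561))
 (.leaf (nat_lit 0x305040102) (nat_lit 2561))
)) (.node (nat_lit 0x401030502) (.leaf (nat_lit 0x401020305) (nat_lit 2560))
 (.node (nat_lit 0x401050203) (.leaf (nat_lit 0x401030502) (nat_lit 2304))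
 (.leaf (nat_lit 0x401050203) (nat_lit 2816))
))) (.node (nat_lit 0x403010205) (.node (nat_lit 0x402030105) (.leaf (nat_lit 0x402010503) (nat_lit 1281))
 (.node (nat_lit 0x402050301) (.leaf (nat_lit 0x402030105) (nat_lit 1537))
 (.leaf (nat_lit 0x402050301) (nat_lit 1793))
)) (.node (nat_lit 0x403020501) (.leaf (nat_lit 0x403010205) (nat_lit 2049))
 (.node (nat_lit 0x403050102) (.leaf (nat_lit 0x403020501) (nat_lit 1793))
 (.leaf (nat_lit 0x403050102) (nat_lit 2305))
)))))) (.node (nat_lit 0x10004030502) (.node (nat_lit 0x503040201) (.node (nat_lit 0x501040302) (.node (nat_lit 0x405030201) (.node (nat_lit 0x405020103) (.leaf (nat_lit 0x405010302) (nat_lit 2561))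
 (.leaf (nat_lit 0x405020103) (nat_lit 2817))
) (.node (nat_lit 0x501020403) (.leaf (nat_lit 0x405030201) (nat_lit 2305))
 (.node (nat_lit 0x501030204) (.leaf (nat_lit 0x501020403) (nat_lit 2560))
 (.leaf (nat_lit 0x501030204) (nat_lit 2048))
))) (.node (nat_lit 0x502040103) (.node (nat_lit 0x502010304) (.leaf (nat_lit 0x501040302) (nat_lit 2304))
 (.node (nat_lit 0x502030401) (.leaf (nat_lit 0x502010304) (nat_lit 2816))
 (.leaf (nat_lit 0x502030401) (nat_lit 2560))
)) (.node (nat_lit 0x503010402) (.leaf (nat_lit 0x502040103) (nat_lit 2304))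
 (.node (nat_lit 0x503020104) (.leaf (nat_lit 0x503010402) (nat_lit 2049))
 (.leaf (nat_lit 0x503020104) (nat_lit 1537))
)))) (.node (nat_lit 0x10002040503) (.node (nat_lit 0x504020301) (.node (nat_lit 0x504010203) (.leaf (nat_lit 0x503040201) (nat_lit 1793))
 (.leaf (nat_lit 0x504010203) (nat_lit 1280))
) (.node (nat_lit 0x504030102) (.leaf (nat_lit 0x504020301) (nat_lit 1024))
 (.node (nat_lit 0x10002030405) (.leaf (nat_lit 0x504030102) (nat_lit 768))
 (.leaf (nat_lit 0x10002030405) (nat_lit 2048))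
))) (.node (nat_lit 0x10003040205) (.node (nat_lit 0x10002050304) (.leaf (nat_lit 0x10002040503) (nat_lit 1792))
 (.node (nat_lit 0x10003020504) (.leaf (nat_lit 0x10002050304) (nat_lit 1536))
 (.leaf (nat_lit 0x10003020504) (nat_lit 2049))
)) (.node (nat_lit 0x10003050402) (.leaf (nat_lit 0x10003040205) (nat_lit 2305))
 (.node (nat_lit 0x10004020305) (.leaf (nat_lit 0x10003050402) (nat_lit 2561))
 (.leaf (nat_lit 0x10004020305) (nat_lit 1793))
))))) (.node (nat_lit 0x10204000503) (.node (nat_lit 0x10200030504) (.node (nat_lit 0x10005020403) (.node (nat_lit 0x10004050203) (.leaf (nat_lit 0x10004030502) (nat_lit 2305))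
 (.leaf (nat_lit 0x10004050203) (nat_lit 2049))
) (.node (nat_lit 0x10005030204) (.leaf (nat_lit 0x10005020403) (nat_lit 1280))
 (.node (nat_lit 0x10005040302) (.leaf (nat_lit 0x10005030204) (nat_lit 1536))
 (.leaf (nat_lit 0x10005040302) (nat_lit 1024))
))) (.node (nat_lit 0x10203000405) (.node (nat_lit 0x10200040305) (.leaf (nat_lit 0x10200030504) (nat_lit 2048))
 (.node (nat_lit 0x10200050403) (.leaf (nat_lit 0x10200040305) (nat_lit 2304))
 (.leaf (nat_lit 0x10200050403) (nat_lit 1792))
)) (.node (nat_lit 0x10203040500) (.leaf (nat_lit 0x10203000405) (nat_lit 2304))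
 (.node (nat_lit 0x10203050004) (.leaf (nat_lit 0x10203040500) (nat_lit 2816))
 (.leaf (nat_lit 0x10203050004) (nat_lit 2560))
)))) (.node (nat_lit 0x10300020405) (.node (nat_lit 0x10205000304) (.node (nat_lit 0x10204030005) (.leaf (nat_lit 0x10204000503) (nat_lit 2561))
 (.node (nat_lit 0x10204050300) (.leaf (nat_lit 0x10204030005) (nat_lit 2049))
 (.leaf (nat_lit 0x10204050300) (nat_lit 2305))
)) (.node (nat_lit 0x10205030400) (.leaf (nat_lit 0x10205000304) (nat_lit 1792))
 (.node (nat_lit 0x10205040003) (.leaf (nat_lit 0x10205030400) (nat_lit 1536))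
 (.leaf (nat_lit 0x10205040003) (nat_lit 1280))
))) (.node (nat_lit 0x10302000504) (.node (nat_lit 0x10300040502) (.leaf (nat_lit 0x10300020405) (nat_lit 1792))
 (.node (nat_lit 0x10300050204) (.leaf (nat_lit 0x10300040502) (nat_lit 2304))
 (.leaf (nat_lit 0x10300050204) (nat_lit 2048))
)) (.node (nat_lit 0x10302040005) (.leaf (nat_lit 0x10302000504) (nat_lit 1536))
 (.node (nat_lit 0x10302050400) (.leaf (nat_lit 0x10302040005) (nat_lit 1792))
 (.leaf (nat_lit 0x10302050400) (nat_lit 1280))
))))))) (.node (nat_lit 0x20103000504) (.node (nat_lit 0x10502030004) (.node (nat_lit 0x10402050003) (.node (nat_lit 0x10305040200) (.node (nat_lit 0x10304050002) (.node (nat_lit 0x10304020500) (.leaf (nat_lit 0x10304000205) (nat_lit 2305))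
 (.leaf (nat_lit 0x10304020500) (nat_lit 2305))
) (.node (nat_lit 0x10305000402) (.leaf (nat_lit 0x10304050002) (nat_lit 2561))
 (.node (nat_lit 0x10305020004) (.leaf (nat_lit 0x10305000402) (nat_lit 2305))
 (.leaf (nat_lit 0x10305020004) (nat_lit 2305))
))) (.node (nat_lit 0x10400050302) (.node (nat_lit 0x10400020503) (.leaf (nat_lit 0x10305040200) (nat_lit 2049))
 (.node (nat_lit 0x10400030205) (.leaf (nat_lit 0x10400020503) (nat_lit 1536))
 (.leaf (nat_lit 0x10400030205) (nat_lit 1792))
)) (.node (nat_lit 0x10402000305) (.leaf (nat_lit 0x10400050302) (nat_lit 2048))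
 (.node (nat_lit 0x10402030500) (.leaf (nat_lit 0x10402000305) (nat_lit 2049))
 (.leaf (nat_lit 0x10402030500) (nat_lit 2561))
)))) (.node (nat_lit 0x10405020300) (.node (nat_lit 0x10403020005) (.node (nat_lit 0x10403000502) (.leaf (nat_lit 0x10402050003) (nat_lit 2305))
 (.leaf (nat_lit 0x10403000502) (nat_lit 2049))
) (.node (nat_lit 0x10403050200) (.leaf (nat_lit 0x10403020005) (nat_lit 1537))
 (.node (nat_lit 0x10405000203) (.leaf (nat_lit 0x10403050200) (nat_lit 1793))
 (.leaf (nat_lit 0x10405000203) (nat_lit 2305))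
))) (.node (nat_lit 0x10500030402) (.node (nat_lit 0x10405030002) (.leaf (nat_lit 0x10405020300) (nat_lit 2561))
 (.node (nat_lit 0x10500020304) (.leaf (nat_lit 0x10405030002) (nat_lit 2561))
 (.leaf (nat_lit 0x10500020304) (nat_lit 2305))
)) (.node (nat_lit 0x10500040203) (.leaf (nat_lit 0x10500030402) (nat_lit 2049))
 (.node (nat_lit 0x10502000403) (.leaf (nat_lit 0x10500040203) (nat_lit 1793))
 (.leaf (nat_lit 0x10502000403) (nat_lit 2305))
))))) (.node (nat_lit 0x20003010405) (.node (nat_lit 0x10504000302) (.node (nat_lit 0x10503000204) (.node (nat_lit 0x10502040300) (.leaf (nat_lit 0x10502030004) (nat_lit 2304))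
 (.leaf (nat_lit 0x10502040300) (nat_lit 2049))
) (.node (nat_lit 0x10503020400) (.leaf (nat_lit 0x10503000204) (nat_lit 1792))
 (.node (nat_lit 0x10503040002) (.leaf (nat_lit 0x10503020400) (nat_lit 1793))
 (.leaf (nat_lit 0x10503040002) (nat_lit 2048))
))) (.node (nat_lit 0x20001030504) (.node (nat_lit 0x10504020003) (.leaf (nat_lit 0x10504000302) (nat_lit 513))
 (.node (nat_lit 0x10504030200) (.leaf (nat_lit 0x10504020003) (nat_lit 769))
 (.leaf (nat_lit 0x10504030200) (nat_lit 257))
)) (.node (nat_lit 0x20001040305) (.leaf (nat_lit 0x20001030504) (nat_lit 1537))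
 (.node (nat_lit 0x20001050403) (.leaf (nat_lit 0x20001040305) (nat_lit 1793))
 (.leaf (nat_lit 0x20001050403) (nat_lit 1281))
)))) (.node (nat_lit 0x20005010304) (.node (nat_lit 0x20004010503) (.node (nat_lit 0x20003040501) (.leaf (nat_lit 0x20003010405) (nat_lit 1793))
 (.node (nat_lit 0x20003050104) (.leaf (nat_lit 0x20003040501) (nat_lit 2305))
 (.leaf (nat_lit 0x20003050104) (nat_lit 2049))
)) (.node (nat_lit 0x20004030105) (.leaf (nat_lit 0x20004010503) (nat_lit 2817))
 (.node (nat_lit 0x20004050301) (.leaf (nat_lit 0x20004030105) (nat_lit 2305))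
 (.leaf (nat_lit 0x20004050301) (nat_lit 2561))
))) (.node (nat_lit 0x20100030405) (.node (nat_lit 0x20005030401) (.leaf (nat_lit 0x20005010304) (nat_lit 2048))
 (.node (nat_lit 0x20005040103) (.leaf (nat_lit 0x20005030401) (nat_lit 1792))
 (.leaf (nat_lit 0x20005040103) (nat_lit 1536))
)) (.node (nat_lit 0x20100040503) (.leaf (nat_lit 0x20100030405) (nat_lit 2304))
 (.node (nat_lit 0x20100050304) (.leaf (nat_lit 0x20100040503) (nat_lit 2048))
 (.leaf (nat_lit 0x20100050304) (nat_lit 1792))
)))))) (.node (nat_lit 0x20400030501) (.node (nat_lit 0x20300050401) (.node (nat_lit 0x20104050003) (.node (nat_lit 0x20103050400) (.node (nat_lit 0x20103040005) (.leaf (nat_lit 0x20103000504) (nat_lit 2304))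
 (.leaf (nat_lit 0x20103040005) (nat_lit 2560))
) (.node (nat_lit 0x20104000305) (.leaf (nat_lit 0x20103050400) (nat_lit 2305))
 (.node (nat_lit 0x20104030500) (.leaf (nat_lit 0x20104000305) (nat_lit 2048))
 (.leaf (nat_lit 0x20104030500) (nat_lit 2049))
))) (.node (nat_lit 0x20105040300) (.node (nat_lit 0x20105000403) (.leaf (nat_lit 0x20104050003) (nat_lit 2304))
 (.node (nat_lit 0x20105030004) (.leaf (nat_lit 0x20105000403) (nat_lit 769))
 (.leaf (nat_lit 0x20105030004) (nat_lit 1025))
)) (.node (nat_lit 0x20300010504) (.leaf (nat_lit 0x20105040300) (nat_lit 513))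
 (.node (nat_lit 0x20300040105) (.leaf (nat_lit 0x20300010504) (nat_lit 1792))
 (.leaf (nat_lit 0x20300040105) (nat_lit 2048))
)))) (.node (nat_lit 0x20304010005) (.node (nat_lit 0x20301040500) (.node (nat_lit 0x20301000405) (.leaf (nat_lit 0x20300050401) (nat_lit 1536))
 (.leaf (nat_lit 0x20301000405) (nat_lit 2049))
) (.node (nat_lit 0x20301050004) (.leaf (nat_lit 0x20301040500) (nat_lit 1793))
 (.node (nat_lit 0x20304000501) (.leaf (nat_lit 0x20301050004) (nat_lit 1537))
 (.leaf (nat_lit 0x20304000501) (nat_lit 2561))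
))) (.node (nat_lit 0x20305010400) (.node (nat_lit 0x20304050100) (.leaf (nat_lit 0x20304010005) (nat_lit 2560))
 (.node (nat_lit 0x20305000104) (.leaf (nat_lit 0x20304050100) (nat_lit 2816))
 (.leaf (nat_lit 0x20305000104) (nat_lit 2560))
)) (.node (nat_lit 0x20305040001) (.leaf (nat_lit 0x20305010400) (nat_lit 2561))
 (.node (nat_lit 0x20400010305) (.leaf (nat_lit 0x20305040001) (nat_lit 2305))
 (.leaf (nat_lit 0x20400010305) (nat_lit 2305))
))))) (.node (nat_lit 0x20500010403) (.node (nat_lit 0x20403000105) (.node (nat_lit 0x20401000503) (.node (nat_lit 0x20400050103) (.leaf (nat_lit 0x20400030501) (nat_lit 2049))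
 (.leaf (nat_lit 0x20400050103) (nat_lit 2561))
) (.node (nat_lit 0x20401030005) (.leaf (nat_lit 0x20401000503) (nat_lit 1792))
 (.node (nat_lit 0x20401050300) (.leaf (nat_lit 0x20401030005) (nat_lit 2048))
 (.leaf (nat_lit 0x20401050300) (nat_lit 2304))
))) (.node (nat_lit 0x20405000301) (.node (nat_lit 0x20403010500) (.leaf (nat_lit 0x20403000105) (nat_lit 1793))
 (.node (nat_lit 0x20403050001) (.leaf (nat_lit 0x20403010500) (nat_lit 1537))
 (.leaf (nat_lit 0x20403050001) (nat_lit 2049))
)) (.node (nat_lit 0x20405010003) (.leaf (nat_lit 0x20405000301) (nat_lit 2561))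
 (.node (nat_lit 0x20405030100) (.leaf (nat_lit 0x20405010003) (nat_lit 2560))
 (.leaf (nat_lit 0x20405030100) (nat_lit 2561))
)))) (.node (nat_lit 0x20503000401) (.node (nat_lit 0x20501000304) (.node (nat_lit 0x20500030104) (.leaf (nat_lit 0x20500010403) (nat_lit 2305))
 (.node (nat_lit 0x20500040301) (.leaf (nat_lit 0x20500030104) (nat_lit 1793))
 (.leaf (nat_lit 0x20500040301) (nat_lit 2049))
)) (.node (nat_lit 0x20501030400) (.leaf (nat_lit 0x20501000304) (nat_lit 2560))
 (.node (nat_lit 0x20501040003) (.leaf (nat_lit 0x20501030400) (nat_lit 2304))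
 (.leaf (nat_lit 0x20501040003) (nat_lit 2048))
))) (.node (nat_lit 0x20504000103) (.node (nat_lit 0x20503010004) (.leaf (nat_lit 0x20503000401) (nat_lit 2048))
 (.node (nat_lit 0x20503040100) (.leaf (nat_lit 0x20503010004) (nat_lit 2048))
 (.leaf (nat_lit 0x20503040100) (nat_lit 2304))
)) (.node (nat_lit 0x20504010300) (.leaf (nat_lit 0x20504000103) (nat_lit 1024))
 (.node (nat_lit 0x20504030001) (.leaf (nat_lit 0x20504010300) (nat_lit 768))
 (.leaf (nat_lit 0x20504030001) (nat_lit 512))
)))))))) (.node (nat_lit 0x40203000501) (.node (nat_lit 0x30405000102) (.node (nat_lit 0x30105020400) (.node (nat_lit 0x30005040201) (.node (nat_lit 0x30002050401) (.node (nat_lit 0x30001050204) (.node (nat_lit 0x30001040502) (.leaf (nat_lit 0x30001020405) (nat_lit 2305))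
 (.leaf (nat_lit 0x30001040502) (nat_lit 2049))
) (.node (nat_lit 0x30002010504) (.leaf (nat_lit 0x30001050204) (nat_lit 1793))
 (.node (nat_lit 0x30002040105) (.leaf (nat_lit 0x30002010504) (nat_lit 1280))
 (.leaf (nat_lit 0x30002040105) (nat_lit 1536))
))) (.node (nat_lit 0x30004050102) (.node (nat_lit 0x30004010205) (.leaf (nat_lit 0x30002050401) (nat_lit 1024))
 (.node (nat_lit 0x30004020501) (.leaf (nat_lit 0x30004010205) (nat_lit 2305))
 (.leaf (nat_lit 0x30004020501) (nat_lit 2049))
)) (.node (nat_lit 0x30005010402) (.leaf (nat_lit 0x30004050102) (nat_lit 2561))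
 (.node (nat_lit 0x30005020104) (.leaf (nat_lit 0x30005010402) (nat_lit 1536))
 (.leaf (nat_lit 0x30005020104) (nat_lit 1792))
)))) (.node (nat_lit 0x30102040500) (.node (nat_lit 0x30100040205) (.node (nat_lit 0x30100020504) (.leaf (nat_lit 0x30005040201) (nat_lit 1280))
 (.leaf (nat_lit 0x30100020504) (nat_lit 1536))
) (.node (nat_lit 0x30100050402) (.leaf (nat_lit 0x30100040205) (nat_lit 1792))
 (.node (nat_lit 0x30102000405) (.leaf (nat_lit 0x30100050402) (nat_lit 1280))
 (.leaf (nat_lit 0x30102000405) (nat_lit 2560))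
))) (.node (nat_lit 0x30104020005) (.node (nat_lit 0x30102050004) (.leaf (nat_lit 0x30102040500) (nat_lit 2304))
 (.node (nat_lit 0x30104000502) (.leaf (nat_lit 0x30102050004) (nat_lit 2048))
 (.leaf (nat_lit 0x30104000502) (nat_lit 2304))
)) (.node (nat_lit 0x30104050200) (.leaf (nat_lit 0x30104020005) (nat_lit 2305))
 (.node (nat_lit 0x30105000204) (.leaf (nat_lit 0x30104050200) (nat_lit 2561))
 (.leaf (nat_lit 0x30105000204) (nat_lit 1281))
))))) (.node (nat_lit 0x30205000401) (.node (nat_lit 0x30201000504) (.node (nat_lit 0x30200010405) (.node (nat_lit 0x30105040002) (.leaf (nat_lit 0x30105020400) (nat_lit 1025))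
 (.leaf (nat_lit 0x30105040002) (nat_lit 769))
) (.node (nat_lit 0x30200040501) (.leaf (nat_lit 0x30200010405) (nat_lit 2049))
 (.node (nat_lit 0x30200050104) (.leaf (nat_lit 0x30200040501) (nat_lit 2561))
 (.leaf (nat_lit 0x30200050104) (nat_lit 2305))
))) (.node (nat_lit 0x30204000105) (.node (nat_lit 0x30201040005) (.leaf (nat_lit 0x30201000504) (nat_lit 1025))
 (.node (nat_lit 0x30201050400) (.leaf (nat_lit 0x30201040005) (nat_lit 1281))
 (.leaf (nat_lit 0x30201050400) (nat_lit 769))
)) (.node (nat_lit 0x30204010500) (.leaf (nat_lit 0x30204000105) (nat_lit 2561))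
 (.node (nat_lit 0x30204050001) (.leaf (nat_lit 0x30204010500) (nat_lit 2560))
 (.leaf (nat_lit 0x30204050001) (nat_lit 2817))
)))) (.node (nat_lit 0x30401000205) (.node (nat_lit 0x30400010502) (.node (nat_lit 0x30205010004) (.leaf (nat_lit 0x30205000401) (nat_lit 1280))
 (.node (nat_lit 0x30205040100) (.leaf (nat_lit 0x30205010004) (nat_lit 1536))
 (.leaf (nat_lit 0x30205040100) (nat_lit 1024))
)) (.node (nat_lit 0x30400020105) (.leaf (nat_lit 0x30400010502) (nat_lit 1793))
 (.node (nat_lit 0x30400050201) (.leaf (nat_lit 0x30400020105) (nat_lit 2049))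
 (.leaf (nat_lit 0x30400050201) (nat_lit 2305))
))) (.node (nat_lit 0x30402000501) (.node (nat_lit 0x30401020500) (.leaf (nat_lit 0x30401000205) (nat_lit 2304))
 (.node (nat_lit 0x30401050002) (.leaf (nat_lit 0x30401020500) (nat_lit 2048))
 (.leaf (nat_lit 0x30401050002) (nat_lit 2560))
)) (.node (nat_lit 0x30402010005) (.leaf (nat_lit 0x30402000501) (nat_lit 2305))
 (.node (nat_lit 0x30402050100) (.leaf (nat_lit 0x30402010005) (nat_lit 1793))
 (.leaf (nat_lit 0x30402050100) (nat_lit 2049))
)))))) (.node (nat_lit 0x40003020105) (.node (nat_lit 0x30502040001) (.node (nat_lit 0x30500040102) (.node (nat_lit 0x30405020001) (.node (nat_lit 0x30405010200) (.leaf (nat_lit 0x30405000102) (nat_lit 2817))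
 (.leaf (nat_lit 0x30405010200) (nat_lit 3073))
) (.node (nat_lit 0x30500010204) (.leaf (nat_lit 0x30405020001) (nat_lit 2817))
 (.node (nat_lit 0x30500020401) (.leaf (nat_lit 0x30500010204) (nat_lit 2304))
 (.leaf (nat_lit 0x30500020401) (nat_lit 2561))
))) (.node (nat_lit 0x30501040200) (.node (nat_lit 0x30501000402) (.leaf (nat_lit 0x30500040102) (nat_lit 2305))
 (.node (nat_lit 0x30501020004) (.leaf (nat_lit 0x30501000402) (nat_lit 2816))
 (.leaf (nat_lit 0x30501020004) (nat_lit 2560))
)) (.node (nat_lit 0x30502000104) (.leaf (nat_lit 0x30501040200) (nat_lit 2560))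
 (.node (nat_lit 0x30502010400) (.leaf (nat_lit 0x30502000104) (nat_lit 2049))
 (.leaf (nat_lit 0x30502010400) (nat_lit 2561))
)))) (.node (nat_lit 0x40001030205) (.node (nat_lit 0x30504010002) (.node (nat_lit 0x30504000201) (.leaf (nat_lit 0x30502040001) (nat_lit 2305))
 (.leaf (nat_lit 0x30504000201) (nat_lit 2049))
) (.node (nat_lit 0x30504020100) (.leaf (nat_lit 0x30504010002) (nat_lit 2305))
 (.node (nat_lit 0x40001020503) (.leaf (nat_lit 0x30504020100) (nat_lit 1793))
 (.leaf (nat_lit 0x40001020503) (nat_lit 1793))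
))) (.node (nat_lit 0x40002030501) (.node (nat_lit 0x40001050302) (.leaf (nat_lit 0x40001030205) (nat_lit 2049))
 (.node (nat_lit 0x40002010305) (.leaf (nat_lit 0x40001050302) (nat_lit 1537))
 (.leaf (nat_lit 0x40002010305) (nat_lit 1792))
)) (.node (nat_lit 0x40002050103) (.leaf (nat_lit 0x40002030501) (nat_lit 1536))
 (.node (nat_lit 0x40003010502) (.leaf (nat_lit 0x40002050103) (nat_lit 1280))
 (.leaf (nat_lit 0x40003010502) (nat_lit 1281))
))))) (.node (nat_lit 0x40103000205) (.node (nat_lit 0x40100020305) (.node (nat_lit 0x40005010203) (.node (nat_lit 0x40003050201) (.leaf (nat_lit 0x40003020105) (nat_lit 1537))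
 (.leaf (nat_lit 0x40003050201) (nat_lit 1793))
) (.node (nat_lit 0x40005020301) (.leaf (nat_lit 0x40005010203) (nat_lit 2817))
 (.node (nat_lit 0x40005030102) (.leaf (nat_lit 0x40005020301) (nat_lit 2561))
 (.leaf (nat_lit 0x40005030102) (nat_lit 2305))
))) (.node (nat_lit 0x40102000503) (.node (nat_lit 0x40100030502) (.leaf (nat_lit 0x40100020305) (nat_lit 2048))
 (.node (nat_lit 0x40100050203) (.leaf (nat_lit 0x40100030502) (nat_lit 1792))
 (.leaf (nat_lit 0x40100050203) (nat_lit 1536))
)) (.node (nat_lit 0x40102030005) (.leaf (nat_lit 0x40102000503) (nat_lit 2048))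
 (.node (nat_lit 0x40102050300) (.leaf (nat_lit 0x40102030005) (nat_lit 2304))
 (.leaf (nat_lit 0x40102050300) (nat_lit 1792))
)))) (.node (nat_lit 0x40200010503) (.node (nat_lit 0x40105000302) (.node (nat_lit 0x40103020500) (.leaf (nat_lit 0x40103000205) (nat_lit 1792))
 (.node (nat_lit 0x40103050002) (.leaf (nat_lit 0x40103020500) (nat_lit 1536))
 (.leaf (nat_lit 0x40103050002) (nat_lit 2048))
)) (.node (nat_lit 0x40105020003) (.leaf (nat_lit 0x40105000302) (nat_lit 2305))
 (.node (nat_lit 0x40105030200) (.leaf (nat_lit 0x40105020003) (nat_lit 2561))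
 (.leaf (nat_lit 0x40105030200) (nat_lit 2049))
))) (.node (nat_lit 0x40201000305) (.node (nat_lit 0x40200030105) (.leaf (nat_lit 0x40200010503) (nat_lit 1537))
 (.node (nat_lit 0x40200050301) (.leaf (nat_lit 0x40200030105) (nat_lit 1793))
 (.leaf (nat_lit 0x40200050301) (nat_lit 2049))
)) (.node (nat_lit 0x40201030500) (.leaf (nat_lit 0x40201000305) (nat_lit 1537))
 (.node (nat_lit 0x40201050003) (.leaf (nat_lit 0x40201030500) (nat_lit 1281))
 (.leaf (nat_lit 0x40201050003) (nat_lit 1025))
))))))) (.node (nat_lit 0x50102000304) (.node (nat_lit 0x40501020300) (.node (nat_lit 0x40301050200) (.node (nat_lit 0x40205030001) (.node (nat_lit 0x40203050100) (.node (nat_lit 0x40203010005) (.leaf (nat_lit 0x40203000501) (nat_lit 1792))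
 (.leaf (nat_lit 0x40203010005) (nat_lit 2048))
) (.node (nat_lit 0x40205000103) (.leaf (nat_lit 0x40203050100) (nat_lit 2304))
 (.node (nat_lit 0x40205010300) (.leaf (nat_lit 0x40205000103) (nat_lit 2561))
 (.leaf (nat_lit 0x40205010300) (nat_lit 2560))
))) (.node (nat_lit 0x40300050102) (.node (nat_lit 0x40300010205) (.leaf (nat_lit 0x40205030001) (nat_lit 2304))
 (.node (nat_lit 0x40300020501) (.leaf (nat_lit 0x40300010205) (nat_lit 1536))
 (.leaf (nat_lit 0x40300020501) (nat_lit 1280))
)) (.node (nat_lit 0x40301000502) (.leaf (nat_lit 0x40300050102) (nat_lit 1792))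
 (.node (nat_lit 0x40301020005) (.leaf (nat_lit 0x40301000502) (nat_lit 1537))
 (.leaf (nat_lit 0x40301020005) (nat_lit 1793))
)))) (.node (nat_lit 0x40305010002) (.node (nat_lit 0x40302010500) (.node (nat_lit 0x40302000105) (.leaf (nat_lit 0x40301050200) (nat_lit 1281))
 (.leaf (nat_lit 0x40302000105) (nat_lit 1281))
) (.node (nat_lit 0x40302050001) (.leaf (nat_lit 0x40302010500) (nat_lit 1025))
 (.node (nat_lit 0x40305000201) (.leaf (nat_lit 0x40302050001) (nat_lit 1537))
 (.leaf (nat_lit 0x40305000201) (nat_lit 2817))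
))) (.node (nat_lit 0x40500020103) (.node (nat_lit 0x40305020100) (.leaf (nat_lit 0x40305010002) (nat_lit 3073))
 (.node (nat_lit 0x40500010302) (.leaf (nat_lit 0x40305020100) (nat_lit 2817))
 (.leaf (nat_lit 0x40500010302) (nat_lit 2561))
)) (.node (nat_lit 0x40500030201) (.leaf (nat_lit 0x40500020103) (nat_lit 2049))
 (.node (nat_lit 0x40501000203) (.leaf (nat_lit 0x40500030201) (nat_lit 2305))
 (.leaf (nat_lit 0x40501000203) (nat_lit 2304))
))))) (.node (nat_lit 0x50002010403) (.node (nat_lit 0x40503000102) (.node (nat_lit 0x40502000301) (.node (nat_lit 0x40501030002) (.leaf (nat_lit 0x40501020300) (nat_lit 2816))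
 (.leaf (nat_lit 0x40501030002) (nat_lit 2560))
) (.node (nat_lit 0x40502010003) (.leaf (nat_lit 0x40502000301) (nat_lit 2561))
 (.node (nat_lit 0x40502030100) (.leaf (nat_lit 0x40502010003) (nat_lit 2560))
 (.leaf (nat_lit 0x40502030100) (nat_lit 2305))
))) (.node (nat_lit 0x50001020304) (.node (nat_lit 0x40503010200) (.leaf (nat_lit 0x40503000102) (nat_lit 2304))
 (.node (nat_lit 0x40503020001) (.leaf (nat_lit 0x40503010200) (nat_lit 2305))
 (.leaf (nat_lit 0x40503020001) (nat_lit 2049))
)) (.node (nat_lit 0x50001030402) (.leaf (nat_lit 0x50001020304) (nat_lit 2048))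
 (.node (nat_lit 0x50001040203) (.leaf (nat_lit 0x50001030402) (nat_lit 2560))
 (.leaf (nat_lit 0x50001040203) (nat_lit 2304))
)))) (.node (nat_lit 0x50004010302) (.node (nat_lit 0x50003010204) (.node (nat_lit 0x50002030104) (.leaf (nat_lit 0x50002010403) (nat_lit 1793))
 (.node (nat_lit 0x50002040301) (.leaf (nat_lit 0x50002030104) (nat_lit 2049))
 (.leaf (nat_lit 0x50002040301) (nat_lit 2305))
)) (.node (nat_lit 0x50003020401) (.leaf (nat_lit 0x50003010204) (nat_lit 1537))
 (.node (nat_lit 0x50003040102) (.leaf (nat_lit 0x50003020401) (nat_lit 2049))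
 (.leaf (nat_lit 0x50003040102) (nat_lit 1793))
))) (.node (nat_lit 0x50100020403) (.node (nat_lit 0x50004020103) (.leaf (nat_lit 0x50004010302) (nat_lit 2049))
 (.node (nat_lit 0x50004030201) (.leaf (nat_lit 0x50004020103) (nat_lit 1537))
 (.leaf (nat_lit 0x50004030201) (nat_lit 1793))
)) (.node (nat_lit 0x50100030204) (.leaf (nat_lit 0x50100020403) (nat_lit 2048))
 (.node (nat_lit 0x50100040302) (.leaf (nat_lit 0x50100030204) (nat_lit 2304))
 (.leaf (nat_lit 0x50100040302) (nat_lit 2560))
)))))) (.node (nat_lit 0x50300020104) (.node (nat_lit 0x50200040103) (.node (nat_lit 0x50103040200) (.node (nat_lit 0x50102040003) (.node (nat_lit 0x50102030400) (.leaf (nat_lit 0x50102000304) (nat_lit 2304))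
 (.leaf (nat_lit 0x50102030400) (nat_lit 2816))
) (.node (nat_lit 0x50103000402) (.leaf (nat_lit 0x50102040003) (nat_lit 2560))
 (.node (nat_lit 0x50103020004) (.leaf (nat_lit 0x50103000402) (nat_lit 2304))
 (.leaf (nat_lit 0x50103020004) (nat_lit 1792))
))) (.node (nat_lit 0x50104030002) (.node (nat_lit 0x50104000203) (.leaf (nat_lit 0x50103040200) (nat_lit 2048))
 (.node (nat_lit 0x50104020300) (.leaf (nat_lit 0x50104000203) (nat_lit 1792))
 (.leaf (nat_lit 0x50104020300) (nat_lit 2304))
)) (.node (nat_lit 0x50200010304) (.leaf (nat_lit 0x50104030002) (nat_lit 2048))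
 (.node (nat_lit 0x50200030401) (.leaf (nat_lit 0x50200010304) (nat_lit 1793))
 (.leaf (nat_lit 0x50200030401) (nat_lit 2305))
)))) (.node (nat_lit 0x50203010400) (.node (nat_lit 0x50201030004) (.node (nat_lit 0x50201000403) (.leaf (nat_lit 0x50200040103) (nat_lit 2049))
 (.leaf (nat_lit 0x50201000403) (nat_lit 2304))
) (.node (nat_lit 0x50201040300) (.leaf (nat_lit 0x50201030004) (nat_lit 2560))
 (.node (nat_lit 0x50203000104) (.leaf (nat_lit 0x50201040300) (nat_lit 2305))
 (.leaf (nat_lit 0x50203000104) (nat_lit 2048))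
))) (.node (nat_lit 0x50204010003) (.node (nat_lit 0x50203040001) (.leaf (nat_lit 0x50203010400) (nat_lit 2049))
 (.node (nat_lit 0x50204000301) (.leaf (nat_lit 0x50203040001) (nat_lit 2304))
 (.leaf (nat_lit 0x50204000301) (nat_lit 2049))
)) (.node (nat_lit 0x50204030100) (.leaf (nat_lit 0x50204010003) (nat_lit 2048))
 (.node (nat_lit 0x50300010402) (.leaf (nat_lit 0x50204030100) (nat_lit 1793))
 (.leaf (nat_lit 0x50300010402) (nat_lit 2048))
))))) (.node (nat_lit 0x50400010203) (.node (nat_lit 0x50302000401) (.node (nat_lit 0x50301000204) (.node (nat_lit 0x50300040201) (.leaf (nat_lit 0x50300020104) (nat_lit 1536))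
 (.leaf (nat_lit 0x50300040201) (nat_lit 1792))
) (.node (nat_lit 0x50301020400) (.leaf (nat_lit 0x50301000204) (nat_lit 1792))
 (.node (nat_lit 0x50301040002) (.leaf (nat_lit 0x50301020400) (nat_lit 2304))
 (.leaf (nat_lit 0x50301040002) (nat_lit 2048))
))) (.node (nat_lit 0x50304000102) (.node (nat_lit 0x50302010004) (.leaf (nat_lit 0x50302000401) (nat_lit 1793))
 (.node (nat_lit 0x50302040100) (.leaf (nat_lit 0x50302010004) (nat_lit 1281))
 (.leaf (nat_lit 0x50302040100) (nat_lit 1537))
)) (.node (nat_lit 0x50304010200) (.leaf (nat_lit 0x50304000102) (nat_lit 2049))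
 (.node (nat_lit 0x50304020001) (.leaf (nat_lit 0x50304010200) (nat_lit 2304))
 (.leaf (nat_lit 0x50304020001) (nat_lit 2305))
)))) (.node (nat_lit 0x50402000103) (.node (nat_lit 0x50401000302) (.node (nat_lit 0x50400020301) (.leaf (nat_lit 0x50400010203) (nat_lit 2049))
 (.node (nat_lit 0x50400030102) (.leaf (nat_lit 0x50400020301) (nat_lit 1793))
 (.leaf (nat_lit 0x50400030102) (nat_lit 1537))
)) (.node (nat_lit 0x50401020003) (.leaf (nat_lit 0x50401000302) (nat_lit 2048))
 (.node (nat_lit 0x50401030200) (.leaf (nat_lit 0x50401020003) (nat_lit 2304))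
 (.leaf (nat_lit 0x50401030200) (nat_lit 1792))
))) (.node (nat_lit 0x50403000201) (.node (nat_lit 0x50402010300) (.leaf (nat_lit 0x50402000103) (nat_lit 1793))
 (.node (nat_lit 0x50402030001) (.leaf (nat_lit 0x50402010300) (nat_lit 1537))
 (.leaf (nat_lit 0x50402030001) (nat_lit 2049))
)) (.node (nat_lit 0x50403010002) (.leaf (nat_lit 0x50403000201) (nat_lit 256))
 (.node (nat_lit 0x50403020100) (.leaf (nat_lit 0x50403010002) (nat_lit 512))
 (.leaf (nat_lit 0x50403020100) (nat_lit 0))
)))))))))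

theorem A6_ok : genOK P6 [(nat_lit 0x50403000201), (nat_lit 0x10504030200)] A6_t (nat_lit 360) = true := by decide +kernel

noncomputable def cI6 : List ℕ := [(nat_lit 0x30105020400), (nat_lit 0x30205040100), (nat_lit 0x402030105), (nat_lit 0x50003010204), (nat_lit 0x10400020503), (nat_lit 0x30005020104), (nat_lit 0x50402030001), (nat_lit 0x10403000502), (nat_lit 0x20403050001), (nat_lit 0x50400010203), (nat_lit 0x20003050104), (nat_lit 0x403010205), (nat_lit 0x50002030104), (nat_lit 0x50200040103), (nat_lit 0x203040105), (nat_lit 0x50401000302), (nat_lit 0x40503020001), (nat_lit 0x103020405), (nat_lit 0x50100020403), (nat_lit 0x10003020504), (nat_lit 0x50001020304), (nat_lit 0x304020105), (nat_lit 0x40500020103), (nat_lit 0x50304000102), (nat_lit 0x50103000402), (nat_lit 0x20401050300), (nat_lit 0x40503010200), (nat_lit 0x50203040001), (nat_lit 0x50304020001), (nat_lit 0x40503000102), (nat_lit 0x10304020500), (nat_lit 0x40502030100), (nat_lit 0x50201040300), (nat_lit 0x50304010200),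 (nat_lit 0x20103050400), (nat_lit 0x20400050103), (nat_lit 0x10402030500), (nat_lit 0x401020305), (nat_lit 0x10203040500), (nat_lit 0x50102030400), (nat_lit 0x40501020300), (nat_lit 0x20304050100), (nat_lit 0x30405000102), (nat_lit 0x30405020001), (nat_lit 0x30405010200)]

end Cfsg.Agent.Rec.J23
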