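import Mathlib
import Cfsg.Agent.Rec.J23.StepF

/-!
One class of involutions: an element interchanging `V` and `W`.
-/

set_option autoImplicit false

namespace Cfsg.Agent.Rec.J23

open Cfsg.Agent.Spor Cfsg.Agent.Rec Subgroup Cfsg.Agent.Loc.Mss

universe u

variable {G : Type u} [Group G] [Finite G]

theorem StM.exists_k (s : StM G) (h : IsConj s.z s.t) : ∃ k : G,
    k * (s.q5 * s.p * s.x) = (s.q5 * s.p * s.x) * k ∧ (∀ v ∈ s.V, k * v * k⁻¹ ∈ s.W) ∧
    (∀ v ∈ s.W, k * v * k⁻¹ ∈ s.V) ∧ k * (s.q5 * s.p) * k⁻¹ = (s.q5 * s.p)⁻¹ ∧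
    k * s.x * k⁻¹ = (s.q5 * s.p * s.x⁻¹)⁻¹ := by
  obtain ⟨k, hE, hX, hV⟩ := s.exists_swap h
  obtain ⟨-, -, hVE, hWE, -, -, ht, ht1, -⟩ := s.f_E
  obtain ⟨-, hx1, hw1, hxX, hwX, -, hCw, hCx, hne1, hne2, e1, e2, e3, e4, hnc, hVc⟩ := s.f_w
  have hfix := fun hM => s.not_fix_y h hE hV hM
  set w := s.q5 * s.p * s.x⁻¹ with hwdef
  set y := s.q5 * s.p with hydef
  have hconj : ∀ {a b : G}, a * b = b * a → k * a * k⁻¹ * (k * b * k⁻¹) = k * b * k⁻¹ * (k * a * k⁻¹) :=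
    fun {a b} e => by
      calc k * a * k⁻¹ * (k * b * k⁻¹) = k * (a * b) * k⁻¹ := by group
        _ = _ := by rw [e]; group
  have htV : k⁻¹ * s.t * k ∈ s.V := mem_cj.1 (hV ▸ ht)
  have h1 : k * s.x * k⁻¹ = w ∨ k * s.x * k⁻¹ = w⁻¹ := by
    refine (s.f_X _ (conj_mem_of_norm hX hxX)).2.2.2.2.1 (fun e => hx1 (conj_eq_one.1 e)) ?_
    have := hconj ((hCx _ (hVE htV)).2 htV)
    rwa [show k * (k⁻¹ * s.t * k) * k⁻¹ = s.t by group] at this
  have h2 : k * w * k⁻¹ = s.x ∨ k * w * k⁻¹ = s.x⁻¹ := by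
    have hne : ∀ {a b : G}, k * a * k⁻¹ = k * b * k⁻¹ → a = b := fun e => by simpa using e
    rcases (s.f_X _ (conj_mem_of_norm hX hwX)).2.2.2.2.2 (fun e => hw1 (conj_eq_one.1 e)) _
      (conj_mem_of_norm hE (hWE ht)) (fun e => ht1 (conj_eq_one.1 e))
      (hconj ((hCw _ (hWE ht)).2 ht)) with e | e | e | e
    · exact .inl e
    · exact .inr e
    · rcases h1 with e' | e'
      · exact (hne1 (hne (e'.trans e.symm))).elim
      · refine (hne2 (hne (e'.trans ?_))).elim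
        have e'' : k * w * k⁻¹ = w := e
        calc w⁻¹ = (k * w * k⁻¹)⁻¹ := by rw [e'']
          _ = _ := by group
    · rcases h1 with e' | e'
      · refine (hne2 (hne (e'.trans ?_))).elim
        have e'' : k * w * k⁻¹ = w⁻¹ := e
        calc w = (k * w * k⁻¹)⁻¹ := by rw [e'', inv_inv]
          _ = _ := by group
      · exact (hne1 (hne (e'.trans e.symm))).elim
  have hW : cj(k, s.W) ≤ s.V := cj_le_iff.2 fun e he => by
    refine (hCx _ (conj_mem_of_norm hE (hWE he))).1 ?_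
    have := hconj ((hCw _ (hWE he)).2 he)
    rcases h2 with e' | e' <;> rw [e'] at this
    · exact this
    · exact (Commute.inv_left_iff.1 this : Commute _ _)
  have hM : k * k ∈ s.M := s.norm_eq ▸ mem_norm_of_cj_le (by rw [← cj_cj, hV]; exact hW)
  have hni : k * k * s.x ≠ s.x⁻¹ * (k * k) := (s.f_M _ hM).1
  rcases h1 with h1 | h1 <;> rcases h2 with h2 | h2
  · exact (hfix hM h1 h2).elim
  · refine (hni ?_).elim
    calc k * k * s.x = k * (k * s.x * k⁻¹) * k⁻¹ * (k * k) := by group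
      _ = _ := by rw [h1, h2]
  · refine (hni ?_).elim
    calc k * k * s.x = k * (k * s.x * k⁻¹) * k⁻¹ * (k * k) := by group
      _ = (k * w * k⁻¹)⁻¹ * (k * k) := by rw [h1]; group
      _ = _ := by rw [h2]
  · have hy : k * y * k⁻¹ = y⁻¹ := by
      calc k * y * k⁻¹ = (k * w * k⁻¹) * (k * s.x * k⁻¹) := by rw [hwdef]; group
        _ = y⁻¹ := by rw [h1, h2, hwdef]; group
    have hw2 : k * (y * s.x) * k⁻¹ = y * s.x := by
      calc k * (y * s.x) * k⁻¹ = (k * y * k⁻¹) * (k * s.x * k⁻¹) := by group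
        _ = _ := by rw [hy, h1, e3]
    exact ⟨k, mul_inv_eq_iff_eq_mul.1 hw2, cj_le_iff.1 hV.le, cj_le_iff.1 hW, hy, h1⟩

end Cfsg.Agent.Rec.J23
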