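import Mathlib
import Cfsg.Agent.Rec.Pres
import Cfsg.Agent.Rec.Pair
import Cfsg.Agent.Spor.NM.F4x6

/-! Generated by tools/rec: the amalgam of type J2/J3: letters, presentations -/

set_option autoImplicit false
set_option maxRecDepth 100000
set_option linter.unusedVariables false
set_option exponentiation.threshold 100000

namespace Cfsg.Agent.Rec.J23

open Cfsg.Agent.Spor Cfsg.Agent.Rec

universe u

/-- Pairs of packed matrices. -/
noncomputable def A : Ar := pairAr NM.F4x6.mul (nat_lit 540) (nat_lit 0xfffffffffffffffffffffffffffffffffffffffffffffffffffffffffffffffffffffffffffffffffffffffffffffffffffffffffffffffffffffffffffffffffffffff) (nat_lit 0x200000000000000000000000001000000000000000000000000008000000000000000000000000040000000000000000000000000200000000000000000000000001000200000000000000000000000001000000000000000000000000008000000000000000000000000040000000000000000000000000200000000000000000000000001)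

theorem A_ok : pairOK NM.F4x6.one (nat_lit 540) (nat_lit 0xfffffffffffffffffffffffffffffffffffffffffffffffffffffffffffffffffffffffffffffffffffffffffffffffffffffffffffffffffffffffffffffffffffffff) (nat_lit 0x200000000000000000000000001000000000000000000000000008000000000000000000000000040000000000000000000000000200000000000000000000000001000200000000000000000000000001000000000000000000000000008000000000000000000000000040000000000000000000000000200000000000000000000000001) = true := by decide +kernel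

/-- The test for codes. -/
noncomputable def A_v : ℕ → Bool := pairV NM.F4x6.mul NM.F4x6.one NM.F4x6.ent (nat_lit 540) (nat_lit 0xfffffffffffffffffffffffffffffffffffffffffffffffffffffffffffffffffffffffffffffffffffffffffffffffffffffffffffffffffffffffffffffffffffffff)

noncomputable def cB : List ℕ := [(nat_lit 0x40108000000200800108020004200040100021004200840008020000200800108021000000840008020004000800000001004000040008001000000840100020000000040108000000200800108020004200040100021004200840008020000200800108021000000840008020004000800000001004000040008001000000840100020), (nat_lit 0x4200840108021000200800008001004000040000021004000840100021000200800100000004200840000001004000800108001004000840008021004000000008001004200840108021000200800008001004000040000021004000840100021000200800100000004200840000001004000800108001004000840008021004000000008001), (nat_lit 0x4200000108021000200000108001000200040100000004200000000001004000000100020000200800008000000000040008000000200000108020004200040100001004200000108021000200000108001000200040100000004200000000001004000000100020000200800008000000000040008000000200000108020004200040100001),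 (nat_lit 0x4000840000021000000840108000004000040100001004000000108000004000000008000000200040008000000200840100021004200840008020004200800108021004000840000021000000840108000004000040100001004000000108000004000000008000000200040008000000200840100021004200840008020004200800108021), (nat_lit 0x4000000108020000200800008000000200000008021004200840100000004200800008020000200840108021004200000108020000000800108021004200000108021004000000108020000200800008000000200000008021004200840100000004200800008020000200840108021004200000108020000000800108021004200000108021), (nat_lit 0x4200800000020000000800008000000200000008021000200040000000000200840008001004200840108000004200840008020000000040100020004000000100000004200800000020000000800008000000200000008021000200040000000000200840008001004200840108000004200840008020000000040100020004000000100000), (nat_lit 0x800100001004000840000021000000840108000004000040100000004000800008020004000800000000000200800100000004000000100000000000840008000000200800100001004000840000020000000840108000004000040108000004000800008020004000840000000000200800100000004200000100000000000840008001),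 (nat_lit 0x200800100001004000840000020000000840108000004000040108000004000800008020004000840000000000200800100000004200000100000000000840008001000000800100001004000840000021000000840108000004000040100000004000800008020004000800000000000200800100000004000000100000000000840008000), (nat_lit 0x108020004200840108001004000000008020000000000008001004200000000021004000000000001000000040108020000200800100021004200840100001000000000108020004200840108001004000000008020000000000008001004200000000021004000000000001000000040108020000200800100021004200840100001)]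

noncomputable def cH : List ℕ := [(nat_lit 0x40108000000200800108020004200040100021004200840008020000200800108021000000840008020004000800000001004000040008001000000840100020000000040108000000200800108020004200040100021004200840008020000200800108021000000840008020004000800000001004000040008001000000840100020), (nat_lit 0x4200840108021000200800008001004000040000021004000840100021000200800100000004200840000001004000800108001004000840008021004000000008001004200840108021000200800008001004000040000021004000840100021000200800100000004200840000001004000800108001004000840008021004000000008001), (nat_lit 0x4200000108021000200000108001000200040100000004200000000001004000000100020000200800008000000000040008000000200000108020004200040100001004200000108021000200000108001000200040100000004200000000001004000000100020000200800008000000000040008000000200000108020004200040100001), (nat_lit 0x4000840000021000000840108000004000040100001004000000108000004000000008000000200040008000000200840100021004200840008020004200800108021004000840000021000000840108000004000040100001004000000108000004000000008000000200040008000000200840100021004200840008020004200800108021),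 (nat_lit 0x4000000108020000200800008000000200000008021004200840100000004200800008020000200840108021004200000108020000000800108021004200000108021004000000108020000200800008000000200000008021004200840100000004200800008020000200840108021004200000108020000000800108021004200000108021), (nat_lit 0x4200800000020000000800008000000200000008021000200040000000000200840008001004200840108000004200840008020000000040100020004000000100000004200800000020000000800008000000200000008021000200040000000000200840008001004200840108000004200840008020000000040100020004000000100000), (nat_lit 0x800100001004000840000021000000840108000004000040100000004000800008020004000800000000000200800100000004000000100000000000840008000000200800100001004000840000020000000840108000004000040108000004000800008020004000840000000000200800100000004200000100000000000840008001), (nat_lit 0x200800100001004000840000020000000840108000004000040108000004000800008020004000840000000000200800100000004200000100000000000840008001000000800100001004000840000021000000840108000004000040100000004000800008020004000800000000000200800100000004000000100000000000840008000),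 (nat_lit 0x108020004200840108001004000000008020000000000008001004200000000021004000000000001000000040108020000200800100021004200840100001000000000108020004200840108001004000000008020000000000008001004200000000021004000000000001000000040108020000200800100021004200840100001), (nat_lit 0x4000800108001004200040108020000200800108021000200040008001004000840000020000200800108001000200800000020000200840108000000200040008020004000800108001004200040108020000200800108021000200040008001004000840000020000200800108001000200800000020000200840108000000200040008020)]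

noncomputable def cM : List ℕ := [(nat_lit 0x40108000000200800108020004200040100021004200840008020000200800108021000000840008020004000800000001004000040008001000000840100020000000040108000000200800108020004200040100021004200840008020000200800108021000000840008020004000800000001004000040008001000000840100020), (nat_lit 0x4200840108021000200800008001004000040000021004000840100021000200800100000004200840000001004000800108001004000840008021004000000008001004200840108021000200800008001004000040000021004000840100021000200800100000004200840000001004000800108001004000840008021004000000008001), (nat_lit 0x4200000108021000200000108001000200040100000004200000000001004000000100020000200800008000000000040008000000200000108020004200040100001004200000108021000200000108001000200040100000004200000000001004000000100020000200800008000000000040008000000200000108020004200040100001), (nat_lit 0x4000840000021000000840108000004000040100001004000000108000004000000008000000200040008000000200840100021004200840008020004200800108021004000840000021000000840108000004000040100001004000000108000004000000008000000200040008000000200840100021004200840008020004200800108021),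 (nat_lit 0x4000000108020000200800008000000200000008021004200840100000004200800008020000200840108021004200000108020000000800108021004200000108021004000000108020000200800008000000200000008021004200840100000004200800008020000200840108021004200000108020000000800108021004200000108021), (nat_lit 0x4200800000020000000800008000000200000008021000200040000000000200840008001004200840108000004200840008020000000040100020004000000100000004200800000020000000800008000000200000008021000200040000000000200840008001004200840108000004200840008020000000040100020004000000100000), (nat_lit 0x800100001004000840000021000000840108000004000040100000004000800008020004000800000000000200800100000004000000100000000000840008000000200800100001004000840000020000000840108000004000040108000004000800008020004000840000000000200800100000004200000100000000000840008001), (nat_lit 0x200800100001004000840000020000000840108000004000040108000004000800008020004000840000000000200800100000004200000100000000000840008001000000800100001004000840000021000000840108000004000040100000004000800008020004000800000000000200800100000004000000100000000000840008000),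 (nat_lit 0x108020004200840108001004000000008020000000000008001004200000000021004000000000001000000040108020000200800100021004200840100001000000000108020004200840108001004000000008020000000000008001004200000000021004000000000001000000040108020000200800100021004200840100001), (nat_lit 0x4200040100021004200040100001004200800100000000200840000020004000840108020004200000008020004200800108001000000800108021004000000000020004200040100021004200040100001004200800100000000200840000020004000840108020004200000008020004200800108001000000800108021004000000000020)]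

def relQ : List (List ℕ) :=
  [[0, 0],
   [1, 1],
   [2, 2],
   [3, 3],
   [4, 4],
   [5, 5],
   [0, 1, 0, 1, 5],
   [0, 2, 0, 2, 5],
   [0, 3, 0, 3, 5],
   [0, 4, 0, 4, 5],
   [1, 2, 1, 2, 5],
   [1, 3, 1, 3, 5],
   [1, 4, 1, 4, 5],
   [2, 3, 2, 3, 5],
   [2, 4, 2, 4, 5],
   [3, 4, 3, 4, 5],
   [5, 0, 5, 0],
   [5, 1, 5, 1],
   [5, 2, 5, 2],
   [5, 3, 5, 3],
   [5, 4, 5, 4],
   [0, 1, 2, 3, 4]]

def exB : List (List ℕ) :=
  [[6, 7],
   [7, 6],
   [6, 6, 6],
   [6, 0, 7, 1],
   [6, 1, 7, 2],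
   [6, 2, 7, 0],
   [6, 3, 7, 3],
   [6, 4, 7, 4],
   [8, 8],
   [8, 0, 8, 1],
   [8, 2, 8, 4],
   [8, 3, 8, 3],
   [8, 6, 8, 6, 8, 6]]

def exH : List (List ℕ) :=
  [[9, 9],
   [9, 0, 9, 1],
   [9, 2, 9, 2],
   [9, 3, 9, 4],
   [9, 6, 9, 6],
   [9, 8, 9, 8, 9, 8]]

def exM : List (List ℕ) :=
  [[9, 9],
   [9, 4, 9, 4, 9, 4],
   [9, 6, 9, 7],
   [9, 3, 9, 3],
   [9, 8, 9, 4, 6, 8, 7, 4]]

def relB : List (List ℕ) := relQ ++ exB

def relH : List (List ℕ) := relB ++ exH

def relM : List (List ℕ) := relB ++ exM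

noncomputable def tQ_rels : LT :=
(.node (.node (.node (.node (.node (.leaf [])
 (.leaf [nat_lit 3,nat_lit 4,nat_lit 3,nat_lit 4,nat_lit 5])
) (.leaf [nat_lit 0,nat_lit 2,nat_lit 0,nat_lit 2,nat_lit 5])
) (.node (.node (.leaf [nat_lit 3,nat_lit 3])
 (.leaf [nat_lit 5,nat_lit 3,nat_lit 5,nat_lit 3])
) (.leaf [nat_lit 1,nat_lit 3,nat_lit 1,nat_lit 3,nat_lit 5])
)) (.node (.node (.node (.leaf [nat_lit 1,nat_lit 1])
 (.leaf [nat_lit 5,nat_lit 1,nat_lit 5,nat_lit 1])
) (.leaf [nat_lit 0,nat_lit 4,nat_lit 0,nat_lit 4,nat_lit 5])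
) (.node (.node (.leaf [nat_lit 5,nat_lit 5])
 (.leaf [nat_lit 0,nat_lit 1,nat_lit 2,nat_lit 3,nat_lit 4])
) (.leaf [nat_lit 2,nat_lit 3,nat_lit 2,nat_lit 3,nat_lit 5])
))) (.node (.node (.node (.node (.leaf [nat_lit 0,nat_lit 0])
 (.leaf [nat_lit 5,nat_lit 0,nat_lit 5,nat_lit 0])
) (.leaf [nat_lit 0,nat_lit 3,nat_lit 0,nat_lit 3,nat_lit 5])
) (.node (.node (.leaf [nat_lit 4,nat_lit 4])
 (.leaf [nat_lit 5,nat_lit 4,nat_lit 5,nat_lit 4])
) (.leaf [nat_lit 1,nat_lit 4,nat_lit 1,nat_lit 4,nat_lit 5])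
)) (.node (.node (.node (.leaf [nat_lit 2,nat_lit 2])
 (.leaf [nat_lit 5,nat_lit 2,nat_lit 5,nat_lit 2])
) (.leaf [nat_lit 1,nat_lit 2,nat_lit 1,nat_lit 2,nat_lit 5])
) (.node (.leaf [nat_lit 0,nat_lit 1,nat_lit 0,nat_lit 1,nat_lit 5])
 (.leaf [nat_lit 2,nat_lit 4,nat_lit 2,nat_lit 4,nat_lit 5])
))))
noncomputable def tQ_hws : LT :=
(.leaf [])

noncomputable def tQ_inv : ℕ → ℕ := getP (nat_lit 8) (nat_lit 255) (nat_lit 0x50403020100)

noncomputable def tQ_t : BT :=
(.node (.node (.node (.leaf (nat_lit 0x1496c5564aa35e24f2f3924930010a28a47c25523a24f11a8f0013ee8005510522710a9120e00126e0007564001686290a07000d6c00049500055bc0006421482c3000b77c003eb40013d5000528000172c0442360215160105888081830000080020001))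
 (.leaf (nat_lit 0x2497c3584b26842522b4125909490c5800b378003988001c47000ce88005b340052ba0011c35088860003f24e2332e0025dc0004a10003720922d2c0011530010ed8001304421f24110d8e008e0c000bf7c000480021c990108ca008243c040914020205))
) (.node (.leaf (nat_lit 0x60974a064b01c004e8ad926160011a7304804e223c18001a446c8c85000997182290c002edf00102d2043a40d21716000ed20006a49448c6c000f84001e590005e8800655c321a1e0003c100162f0005354044e3a021a180000a00081e34040710020103))
 (.leaf (nat_lit 0x7fe0003ff0001ff8000ffc0007fe0003ff0001ff8000ffc0007fe0003ff0001ff8000ffc0007fe0003ff0001ff8000ffc0007fe0003ff0001ff8000ffc0007fe0003ff0001ff8000ffc0007fe0003ff0001ff8000ffc0007fe0003ff0001ff8000ffc0))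
)) (.node (.node (.leaf (nat_lit 0x309707a64ae4692511200244590914c1847e3a123b100022db000be20005d50c2281ab117164c8845000390c0057bc610a8600172f8007f680028aa31068b000366000434c0051ba001dd90001a08002b40044838021797010709000030004060e020082))
 (.leaf (nat_lit 0x16a2da4ac66a25028e9250f9891050007b100056bd011b13748c07344582400268600285d000dac2443c34f218100009c20012ae000615c001ea43907070002a0800896c002cac000c510003a60000b00045a3e021e9a01098a8082640040a16020286))
) (.node (.leaf (nat_lit 0x8c978c800a9148253180026c80011e94648218005ebef91b95708c48324562c0037b0b91287000821a248e6c00199e0018d72c864880023088210140029dd000aeb000213400088209269c00096a000836804543c0001c00108098082238040812020184))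
 (.leaf (nat_lit 0x40a2802031401010a00804500400280205100102080080840040220020010010286008103004061802010c01000600814200408100203080101040080020040a0802040401018200808100402080105000082000040c00020400010100008000000000))
)))

noncomputable def tQ_rules : LT :=
(.node (.node (.node (.node (.node (.node (.leaf [nat_lit 16,nat_lit 1,nat_lit 0,nat_lit 4,nat_lit 3,nat_lit 4,nat_lit 5,nat_lit 3])
 (.leaf [nat_lit 11,nat_lit 0,nat_lit 1,nat_lit 5,nat_lit 2,nat_lit 1,nat_lit 2,nat_lit 1])
) (.leaf [nat_lit 11,nat_lit 1,nat_lit 1,nat_lit 2,nat_lit 1,nat_lit 2,nat_lit 1,nat_lit 5])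
) (.node (.node (.leaf [nat_lit 22,nat_lit 1,nat_lit 1,nat_lit 3,nat_lit 2,nat_lit 1,nat_lit 0,nat_lit 4])
 (.leaf [nat_lit 13,nat_lit 1,nat_lit 1,nat_lit 4,nat_lit 1,nat_lit 4,nat_lit 1,nat_lit 5])
) (.leaf [nat_lit 19,nat_lit 2,nat_lit 1,nat_lit 2,nat_lit 5,nat_lit 2,nat_lit 5])
)) (.node (.node (.node (.leaf [nat_lit 15,nat_lit 1,nat_lit 1,nat_lit 4,nat_lit 2,nat_lit 4,nat_lit 2,nat_lit 5])
 (.leaf [nat_lit 22,nat_lit 3,nat_lit 1,nat_lit 1,nat_lit 0,nat_lit 4,nat_lit 3,nat_lit 2])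
) (.leaf [nat_lit 22,nat_lit 0,nat_lit 1,nat_lit 4,nat_lit 3,nat_lit 2,nat_lit 1,nat_lit 0])
) (.node (.node (.leaf [nat_lit 18,nat_lit 2,nat_lit 1,nat_lit 1,nat_lit 5,nat_lit 1,nat_lit 5])
 (.leaf [nat_lit 16,nat_lit 1,nat_lit 1,nat_lit 4,nat_lit 3,nat_lit 4,nat_lit 3,nat_lit 5])
) (.leaf [nat_lit 12,nat_lit 1,nat_lit 1,nat_lit 3,nat_lit 1,nat_lit 3,nat_lit 1,nat_lit 5])
))) (.node (.node (.node (.node (.leaf [nat_lit 16,nat_lit 3,nat_lit 0,nat_lit 4,nat_lit 5,nat_lit 3,nat_lit 4,nat_lit 3])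
 (.leaf [nat_lit 15,nat_lit 2,nat_lit 1,nat_lit 2,nat_lit 4,nat_lit 2,nat_lit 5,nat_lit 4])
) (.leaf [nat_lit 11,nat_lit 4,nat_lit 0,nat_lit 5,nat_lit 1,nat_lit 2,nat_lit 1,nat_lit 2])
) (.node (.node (.leaf [nat_lit 11,nat_lit 3,nat_lit 1,nat_lit 2,nat_lit 1,nat_lit 5,nat_lit 2,nat_lit 1])
 (.leaf [nat_lit 8,nat_lit 0,nat_lit 1,nat_lit 5,nat_lit 2,nat_lit 0,nat_lit 2,nat_lit 0])
) (.leaf [nat_lit 9,nat_lit 4,nat_lit 0,nat_lit 5,nat_lit 0,nat_lit 3,nat_lit 0,nat_lit 3])
)) (.node (.node (.node (.leaf [nat_lit 7,nat_lit 1,nat_lit 1,nat_lit 1,nat_lit 0,nat_lit 1,nat_lit 0,nat_lit 5])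
 (.leaf [nat_lit 10,nat_lit 4,nat_lit 0,nat_lit 5,nat_lit 0,nat_lit 4,nat_lit 0,nat_lit 4])
) (.leaf [nat_lit 12,nat_lit 0,nat_lit 0,nat_lit 1,nat_lit 3,nat_lit 1,nat_lit 3,nat_lit 5])
) (.node (.leaf [nat_lit 15,nat_lit 3,nat_lit 1,nat_lit 4,nat_lit 2,nat_lit 5,nat_lit 4,nat_lit 2])
 (.leaf [nat_lit 8,nat_lit 2,nat_lit 1,nat_lit 0,nat_lit 2,nat_lit 0,nat_lit 5,nat_lit 2])
)))) (.node (.node (.node (.node (.node (.leaf [nat_lit 14,nat_lit 3,nat_lit 1,nat_lit 3,nat_lit 2,nat_lit 5,nat_lit 3,nat_lit 2])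
 (.leaf [nat_lit 13,nat_lit 2,nat_lit 1,nat_lit 1,nat_lit 4,nat_lit 1,nat_lit 5,nat_lit 4])
) (.leaf [nat_lit 12,nat_lit 3,nat_lit 1,nat_lit 3,nat_lit 1,nat_lit 5,nat_lit 3,nat_lit 1])
) (.node (.node (.leaf [nat_lit 21,nat_lit 0,nat_lit 1,nat_lit 4,nat_lit 5,nat_lit 4,nat_lit 5])
 (.leaf [nat_lit 11,nat_lit 2,nat_lit 1,nat_lit 1,nat_lit 2,nat_lit 1,nat_lit 5,nat_lit 2])
) (.leaf [nat_lit 9,nat_lit 1,nat_lit 1,nat_lit 3,nat_lit 0,nat_lit 3,nat_lit 0,nat_lit 5])
)) (.node (.node (.node (.leaf [nat_lit 17,nat_lit 2,nat_lit 1,nat_lit 0,nat_lit 5,nat_lit 0,nat_lit 5])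
 (.leaf [nat_lit 10,nat_lit 1,nat_lit 1,nat_lit 4,nat_lit 0,nat_lit 4,nat_lit 0,nat_lit 5])
) (.leaf [nat_lit 10,nat_lit 2,nat_lit 1,nat_lit 0,nat_lit 4,nat_lit 0,nat_lit 5,nat_lit 4])
) (.node (.node (.leaf [nat_lit 8,nat_lit 1,nat_lit 1,nat_lit 2,nat_lit 0,nat_lit 2,nat_lit 0,nat_lit 5])
 (.leaf [nat_lit 9,nat_lit 0,nat_lit 1,nat_lit 5,nat_lit 3,nat_lit 0,nat_lit 3,nat_lit 0])
) (.leaf [nat_lit 7,nat_lit 0,nat_lit 1,nat_lit 5,nat_lit 1,nat_lit 0,nat_lit 1,nat_lit 0])
))) (.node (.node (.node (.node (.leaf [nat_lit 14,nat_lit 2,nat_lit 1,nat_lit 2,nat_lit 3,nat_lit 2,nat_lit 5,nat_lit 3])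
 (.leaf [nat_lit 20,nat_lit 2,nat_lit 1,nat_lit 3,nat_lit 5,nat_lit 3,nat_lit 5])
) (.leaf [nat_lit 12,nat_lit 2,nat_lit 1,nat_lit 1,nat_lit 3,nat_lit 1,nat_lit 5,nat_lit 3])
) (.node (.node (.leaf [nat_lit 22,nat_lit 3,nat_lit 0,nat_lit 3,nat_lit 4,nat_lit 0,nat_lit 1,nat_lit 2])
 (.leaf [nat_lit 9,nat_lit 2,nat_lit 1,nat_lit 0,nat_lit 3,nat_lit 0,nat_lit 5,nat_lit 3])
) (.leaf [nat_lit 22,nat_lit 2,nat_lit 1,nat_lit 2,nat_lit 1,nat_lit 0,nat_lit 4,nat_lit 3])
)) (.node (.node (.node (.leaf [nat_lit 7,nat_lit 4,nat_lit 0,nat_lit 5,nat_lit 0,nat_lit 1,nat_lit 0,nat_lit 1])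
 (.leaf [nat_lit 7,nat_lit 2,nat_lit 1,nat_lit 0,nat_lit 1,nat_lit 0,nat_lit 5,nat_lit 1])
) (.leaf [nat_lit 16,nat_lit 0,nat_lit 0,nat_lit 3,nat_lit 4,nat_lit 3,nat_lit 4,nat_lit 5])
) (.node (.leaf [nat_lit 8,nat_lit 4,nat_lit 0,nat_lit 5,nat_lit 0,nat_lit 2,nat_lit 0,nat_lit 2])
 (.leaf [nat_lit 14,nat_lit 1,nat_lit 1,nat_lit 3,nat_lit 2,nat_lit 3,nat_lit 2,nat_lit 5])
)))))

noncomputable def tQ_subs : LT :=
(.leaf [nat_lit 0,nat_lit 0,nat_lit 0,nat_lit 6])


noncomputable def tQ : TC :=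
  ⟨fun x c => Nat.shiftRight (BT.get tQ_t x) (Nat.mul (nat_lit 25) c),
  (nat_lit 6), (nat_lit 63), (nat_lit 65535), (nat_lit 16), (nat_lit 511), (nat_lit 65472), (nat_lit 32), (nat_lit 32), (nat_lit 6), (nat_lit 0), (nat_lit 6), (nat_lit 7), tQ_inv, tQ_rules, tQ_subs⟩

theorem tQ_c1 : tQ.rules.all (ruleOK tQ.m tQ.inv tQ_rels) = true := by decide +kernel
theorem tQ_c2 : tQ.subs.all (subOK tQ.m tQ.inv tQ_hws) = true := by decide +kernel
theorem tQ_c3 : tQ.base = true := by decide +kernel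

theorem tQ_s0 : tQ.slots (nat_lit 0) (nat_lit 32) = true := by decide +kernel

theorem tQ_c4 : tQ.Upto tQ.N := ((TC.upto_zero tQ).step _ tQ_s0)
theorem tQ_c5 : tQ.UptoE tQ.N := (TC.uptoE_n tQ)
theorem tQ_bound {G : Type*} [Group G] {g : ℕ → G} {H : Subgroup G} (hinv : ∀ x < 6, g x * g (tQ_inv x) = 1)
    (hrels : ∀ i, evalW g (tQ_rels.get i) = 1) (hH : ∀ x < 0, g x ∈ H) (hhws : ∀ i, evalW g (tQ_hws.get i) ∈ H) :
    H.relIndex (genLt g 6) ≠ 0 ∧ H.relIndex (genLt g 6) ≤ 32 :=
  TC.relIndex_le (T := tQ) hinv hrels hH hhws tQ_c1 tQ_c2 tQ_c3 tQ_c4 tQ_c5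

theorem tQ_bd : Bound.{u} relQ 0 6 32 := fun _ _ _ _ hs hH =>
  tQ_bound (hs.hinv (by decide +kernel)) (hs.tree (by decide +kernel)) hH (leaf_nil_mem' _ _ (by decide +kernel))

noncomputable def tB_rels : LT :=
(.node (.node (.node (.node (.node (.node (.leaf [])
 (.leaf [nat_lit 8,nat_lit 0,nat_lit 8,nat_lit 1])
) (.leaf [nat_lit 1,nat_lit 4,nat_lit 1,nat_lit 4,nat_lit 5])
) (.node (.leaf [nat_lit 7,nat_lit 6])
 (.leaf [nat_lit 5,nat_lit 4,nat_lit 5,nat_lit 4])
)) (.node (.node (.leaf [nat_lit 3,nat_lit 3])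
 (.leaf [nat_lit 5,nat_lit 0,nat_lit 5,nat_lit 0])
) (.node (.leaf [nat_lit 0,nat_lit 3,nat_lit 0,nat_lit 3,nat_lit 5])
 (.leaf [nat_lit 6,nat_lit 1,nat_lit 7,nat_lit 2])
))) (.node (.node (.node (.node (.leaf [nat_lit 1,nat_lit 1])
 (.leaf [nat_lit 8,nat_lit 3,nat_lit 8,nat_lit 3])
) (.leaf [nat_lit 2,nat_lit 4,nat_lit 2,nat_lit 4,nat_lit 5])
) (.node (.leaf [nat_lit 0,nat_lit 1,nat_lit 0,nat_lit 1,nat_lit 5])
 (.leaf [nat_lit 6,nat_lit 6,nat_lit 6])
)) (.node (.node (.leaf [nat_lit 5,nat_lit 5])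
 (.leaf [nat_lit 5,nat_lit 2,nat_lit 5,nat_lit 2])
) (.node (.leaf [nat_lit 1,nat_lit 2,nat_lit 1,nat_lit 2,nat_lit 5])
 (.leaf [nat_lit 6,nat_lit 3,nat_lit 7,nat_lit 3])
)))) (.node (.node (.node (.node (.node (.leaf [nat_lit 0,nat_lit 0])
 (.leaf [nat_lit 8,nat_lit 2,nat_lit 8,nat_lit 4])
) (.leaf [nat_lit 2,nat_lit 3,nat_lit 2,nat_lit 3,nat_lit 5])
) (.node (.leaf [nat_lit 8,nat_lit 8])
 (.leaf [nat_lit 0,nat_lit 1,nat_lit 2,nat_lit 3,nat_lit 4])
)) (.node (.node (.leaf [nat_lit 4,nat_lit 4])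
 (.leaf [nat_lit 5,nat_lit 1,nat_lit 5,nat_lit 1])
) (.node (.leaf [nat_lit 0,nat_lit 4,nat_lit 0,nat_lit 4,nat_lit 5])
 (.leaf [nat_lit 6,nat_lit 2,nat_lit 7,nat_lit 0])
))) (.node (.node (.node (.node (.leaf [nat_lit 2,nat_lit 2])
 (.leaf [nat_lit 8,nat_lit 6,nat_lit 8,nat_lit 6,nat_lit 8,nat_lit 6])
) (.leaf [nat_lit 3,nat_lit 4,nat_lit 3,nat_lit 4,nat_lit 5])
) (.node (.leaf [nat_lit 0,nat_lit 2,nat_lit 0,nat_lit 2,nat_lit 5])
 (.leaf [nat_lit 6,nat_lit 0,nat_lit 7,nat_lit 1])
)) (.node (.node (.leaf [nat_lit 6,nat_lit 7])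
 (.leaf [nat_lit 5,nat_lit 3,nat_lit 5,nat_lit 3])
) (.node (.leaf [nat_lit 1,nat_lit 3,nat_lit 1,nat_lit 3,nat_lit 5])
 (.leaf [nat_lit 6,nat_lit 4,nat_lit 7,nat_lit 4])
)))))
noncomputable def tB_hws : LT :=
(.leaf [])

noncomputable def tB_inv : ℕ → ℕ := getP (nat_lit 8) (nat_lit 255) (nat_lit 0x80607050403020100)

noncomputable def tB_t : BT :=
(.node (.node (.node (.node (.leaf (nat_lit 0x311996022c28c4524808888310f8e021919842a2b08444610686620a0804080838000))
 (.leaf (nat_lit 0x991a4d222ea4005e548892700129000352c0029100042100064004141408202010303))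
) (.leaf (nat_lit 0x511a16422e294454490890851100e421b1a042d2c084a4810746a20b08840c0838080))
) (.node (.node (.leaf (nat_lit 0x411956222d29045148888c8410f4e221a19c42c2b88484710706820988440a0838040))
 (.leaf (nat_lit 0xc1ca018314030720060c40081c601030c0208100410100420000838001060000000))
) (.leaf (nat_lit 0x184a0031ac004d20009e9000e46001d9c08565010848020c0c000780001110100c1))
)) (.node (.node (.node (.leaf (nat_lit 0x391916122ca8e45048488a8390f0e121999a42b2b484646906c672090824090838020))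
 (.leaf (nat_lit 0xffc001ff8003ff0007fe000ffc001ff8003ff0007fe000ffc001ff8003ff0007fe0))
) (.leaf (nat_lit 0x291ad6522fa8a455494896829104e521b9a242f2c484e48907c6520b88a40d08380a0))
) (.node (.leaf (nat_lit 0x4919d6322da9245348c88e8490fce321a99e42e2bc84c4790786920a88640b0838060))
 (.leaf (nat_lit 0x591894002b95644e4000864590e8c00188c08605810989020e0eb20804000700101c2))
)))

noncomputable def tB_rules : LT :=
(.node (.node (.node (.node (.node (.leaf [nat_lit 27,nat_lit 2,nat_lit 1,nat_lit 0,nat_lit 7,nat_lit 1,nat_lit 6])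
 (.leaf [nat_lit 33,nat_lit 0,nat_lit 1,nat_lit 4,nat_lit 8,nat_lit 2,nat_lit 8])
) (.leaf [nat_lit 28,nat_lit 0,nat_lit 1,nat_lit 2,nat_lit 6,nat_lit 1,nat_lit 7])
) (.node (.leaf [nat_lit 31,nat_lit 2,nat_lit 1,nat_lit 4,nat_lit 7,nat_lit 4,nat_lit 6])
 (.leaf [nat_lit 32,nat_lit 2,nat_lit 1,nat_lit 0,nat_lit 8,nat_lit 1,nat_lit 8])
)) (.node (.node (.node (.leaf [nat_lit 29,nat_lit 2,nat_lit 1,nat_lit 2,nat_lit 7,nat_lit 0,nat_lit 6])
 (.leaf [nat_lit 35,nat_lit 3,nat_lit 1,nat_lit 8,nat_lit 7,nat_lit 8,nat_lit 7,nat_lit 8,nat_lit 7])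
) (.leaf [nat_lit 31,nat_lit 0,nat_lit 1,nat_lit 4,nat_lit 6,nat_lit 4,nat_lit 7])
) (.node (.leaf [nat_lit 29,nat_lit 0,nat_lit 1,nat_lit 0,nat_lit 6,nat_lit 2,nat_lit 7])
 (.leaf [nat_lit 33,nat_lit 2,nat_lit 1,nat_lit 2,nat_lit 8,nat_lit 4,nat_lit 8])
))) (.node (.node (.node (.node (.leaf [nat_lit 28,nat_lit 2,nat_lit 1,nat_lit 1,nat_lit 7,nat_lit 2,nat_lit 6])
 (.leaf [nat_lit 12,nat_lit 0,nat_lit 1,nat_lit 5,nat_lit 3,nat_lit 0,nat_lit 3,nat_lit 0])
) (.leaf [nat_lit 30,nat_lit 0,nat_lit 1,nat_lit 3,nat_lit 6,nat_lit 3,nat_lit 7])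
) (.node (.leaf [nat_lit 13,nat_lit 0,nat_lit 1,nat_lit 5,nat_lit 4,nat_lit 0,nat_lit 4,nat_lit 0])
 (.leaf [nat_lit 32,nat_lit 0,nat_lit 1,nat_lit 1,nat_lit 8,nat_lit 0,nat_lit 8])
)) (.node (.node (.node (.leaf [nat_lit 30,nat_lit 2,nat_lit 1,nat_lit 3,nat_lit 7,nat_lit 3,nat_lit 6])
 (.leaf [nat_lit 35,nat_lit 4,nat_lit 0,nat_lit 8,nat_lit 6,nat_lit 8,nat_lit 6,nat_lit 8,nat_lit 6])
) (.leaf [nat_lit 26,nat_lit 1,nat_lit 0,nat_lit 7,nat_lit 6,nat_lit 6])
) (.node (.leaf [nat_lit 27,nat_lit 0,nat_lit 1,nat_lit 1,nat_lit 6,nat_lit 0,nat_lit 7])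
 (.leaf [nat_lit 34,nat_lit 2,nat_lit 1,nat_lit 3,nat_lit 8,nat_lit 3,nat_lit 8])
))))

noncomputable def tB_subs : LT :=
(.leaf [nat_lit 0,nat_lit 0,nat_lit 0,nat_lit 9])


noncomputable def tB : TC :=
  ⟨fun x c => Nat.shiftRight (BT.get tB_t x) (Nat.mul (nat_lit 23) c),
  (nat_lit 5), (nat_lit 31), (nat_lit 32767), (nat_lit 15), (nat_lit 255), (nat_lit 32736), (nat_lit 12), (nat_lit 12), (nat_lit 9), (nat_lit 6), (nat_lit 9), (nat_lit 10), tB_inv, tB_rules, tB_subs⟩

theorem tB_c1 : tB.rules.all (ruleOK tB.m tB.inv tB_rels) = true := by decide +kernel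
theorem tB_c2 : tB.subs.all (subOK tB.m tB.inv tB_hws) = true := by decide +kernel
theorem tB_c3 : tB.base = true := by decide +kernel

theorem tB_s0 : tB.slots (nat_lit 0) (nat_lit 12) = true := by decide +kernel

theorem tB_c4 : tB.Upto tB.N := ((TC.upto_zero tB).step _ tB_s0)
theorem tB_c5 : tB.UptoE tB.N := (TC.uptoE_n tB)
theorem tB_bound {G : Type*} [Group G] {g : ℕ → G} {H : Subgroup G} (hinv : ∀ x < 9, g x * g (tB_inv x) = 1)
    (hrels : ∀ i, evalW g (tB_rels.get i) = 1) (hH : ∀ x < 6, g x ∈ H) (hhws : ∀ i, evalW g (tB_hws.get i) ∈ H) :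
    H.relIndex (genLt g 9) ≠ 0 ∧ H.relIndex (genLt g 9) ≤ 12 :=
  TC.relIndex_le (T := tB) hinv hrels hH hhws tB_c1 tB_c2 tB_c3 tB_c4 tB_c5

theorem tB_bd : Bound.{u} relB 6 9 12 := fun _ _ _ _ hs hH =>
  tB_bound (hs.hinv (by decide +kernel)) (hs.tree (by decide +kernel)) hH (leaf_nil_mem' _ _ (by decide +kernel))

noncomputable def tH_rels : LT :=
(.node (.node (.node (.node (.node (.node (.leaf [])
 (.leaf [nat_lit 6,nat_lit 4,nat_lit 7,nat_lit 4])
) (.leaf [nat_lit 1,nat_lit 3,nat_lit 1,nat_lit 3,nat_lit 5])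
) (.node (.node (.leaf [nat_lit 7,nat_lit 6])
 (.leaf [nat_lit 9,nat_lit 6,nat_lit 9,nat_lit 6])
) (.leaf [nat_lit 5,nat_lit 3,nat_lit 5,nat_lit 3])
)) (.node (.node (.node (.leaf [nat_lit 3,nat_lit 3])
 (.leaf [nat_lit 8,nat_lit 6,nat_lit 8,nat_lit 6,nat_lit 8,nat_lit 6])
) (.leaf [nat_lit 3,nat_lit 4,nat_lit 3,nat_lit 4,nat_lit 5])
) (.node (.leaf [nat_lit 0,nat_lit 2,nat_lit 0,nat_lit 2,nat_lit 5])
 (.leaf [nat_lit 6,nat_lit 0,nat_lit 7,nat_lit 1])
))) (.node (.node (.node (.node (.leaf [nat_lit 1,nat_lit 1])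
 (.leaf [nat_lit 8,nat_lit 2,nat_lit 8,nat_lit 4])
) (.leaf [nat_lit 2,nat_lit 3,nat_lit 2,nat_lit 3,nat_lit 5])
) (.node (.leaf [nat_lit 9,nat_lit 9])
 (.leaf [nat_lit 0,nat_lit 1,nat_lit 2,nat_lit 3,nat_lit 4])
)) (.node (.node (.node (.leaf [nat_lit 5,nat_lit 5])
 (.leaf [nat_lit 9,nat_lit 2,nat_lit 9,nat_lit 2])
) (.leaf [nat_lit 5,nat_lit 1,nat_lit 5,nat_lit 1])
) (.node (.leaf [nat_lit 0,nat_lit 4,nat_lit 0,nat_lit 4,nat_lit 5])
 (.leaf [nat_lit 6,nat_lit 2,nat_lit 7,nat_lit 0])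
)))) (.node (.node (.node (.node (.node (.leaf [nat_lit 0,nat_lit 0])
 (.leaf [nat_lit 8,nat_lit 0,nat_lit 8,nat_lit 1])
) (.leaf [nat_lit 1,nat_lit 4,nat_lit 1,nat_lit 4,nat_lit 5])
) (.node (.node (.leaf [nat_lit 8,nat_lit 8])
 (.leaf [nat_lit 9,nat_lit 8,nat_lit 9,nat_lit 8,nat_lit 9,nat_lit 8])
) (.leaf [nat_lit 5,nat_lit 4,nat_lit 5,nat_lit 4])
)) (.node (.node (.node (.leaf [nat_lit 4,nat_lit 4])
 (.leaf [nat_lit 9,nat_lit 0,nat_lit 9,nat_lit 1])
) (.leaf [nat_lit 5,nat_lit 0,nat_lit 5,nat_lit 0])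
) (.node (.leaf [nat_lit 0,nat_lit 3,nat_lit 0,nat_lit 3,nat_lit 5])
 (.leaf [nat_lit 6,nat_lit 1,nat_lit 7,nat_lit 2])
))) (.node (.node (.node (.node (.leaf [nat_lit 2,nat_lit 2])
 (.leaf [nat_lit 8,nat_lit 3,nat_lit 8,nat_lit 3])
) (.leaf [nat_lit 2,nat_lit 4,nat_lit 2,nat_lit 4,nat_lit 5])
) (.node (.leaf [nat_lit 0,nat_lit 1,nat_lit 0,nat_lit 1,nat_lit 5])
 (.leaf [nat_lit 6,nat_lit 6,nat_lit 6])
)) (.node (.node (.node (.leaf [nat_lit 6,nat_lit 7])
 (.leaf [nat_lit 9,nat_lit 3,nat_lit 9,nat_lit 4])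
) (.leaf [nat_lit 5,nat_lit 2,nat_lit 5,nat_lit 2])
) (.node (.leaf [nat_lit 1,nat_lit 2,nat_lit 1,nat_lit 2,nat_lit 5])
 (.leaf [nat_lit 6,nat_lit 3,nat_lit 7,nat_lit 3])
)))))
noncomputable def tH_hws : LT :=
(.leaf [])

noncomputable def tH_inv : ℕ → ℕ := getP (nat_lit 8) (nat_lit 255) (nat_lit 0x9080607050403020100)

noncomputable def tH_t : BT :=
(.node (.node (.node (.node (.leaf (nat_lit 0x4c8544710786720a88040b0838000))
 (.leaf (nat_lit 0x6485e3000c08000a0408131038100))
) (.leaf (nat_lit 0x5c8584910886b20c08840f0838080))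
) (.node (.node (.leaf (nat_lit 0x548524810806920b88440d0838040))
 (.leaf (nat_lit 0x7fe000ffc001ff8003ff0007fe0))
) (.leaf (nat_lit 0x4a20009c8040e0cc41008380c0))
)) (.node (.node (.node (.leaf (nat_lit 0x5085047907c6820b08240c0838020))
 (.leaf (nat_lit 0x6885a3000b88d20d08000a0010121))
) (.leaf (nat_lit 0x1486242908c6c20d88a41208380a0))
) (.node (.node (.leaf (nat_lit 0x588564890846a20c88640e0838060))
 (.leaf (nat_lit 0x60e200c18401040401090000000))
) (.leaf (nat_lit 0x6084c3000744041210001108380e0))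
)))

noncomputable def tH_rules : LT :=
(.node (.node (.node (.node (.node (.leaf [nat_lit 37,nat_lit 2,nat_lit 1,nat_lit 0,nat_lit 9,nat_lit 1,nat_lit 9])
 (.leaf [nat_lit 30,nat_lit 2,nat_lit 1,nat_lit 2,nat_lit 7,nat_lit 0,nat_lit 6])
) (.node (.leaf [nat_lit 33,nat_lit 0,nat_lit 1,nat_lit 1,nat_lit 8,nat_lit 0,nat_lit 8])
 (.leaf [nat_lit 27,nat_lit 1,nat_lit 0,nat_lit 7,nat_lit 6,nat_lit 6])
)) (.node (.node (.leaf [nat_lit 39,nat_lit 0,nat_lit 1,nat_lit 4,nat_lit 9,nat_lit 3,nat_lit 9])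
 (.leaf [nat_lit 28,nat_lit 0,nat_lit 1,nat_lit 1,nat_lit 6,nat_lit 0,nat_lit 7])
) (.leaf [nat_lit 13,nat_lit 0,nat_lit 1,nat_lit 5,nat_lit 3,nat_lit 0,nat_lit 3,nat_lit 0])
)) (.node (.node (.node (.leaf [nat_lit 38,nat_lit 2,nat_lit 1,nat_lit 2,nat_lit 9,nat_lit 2,nat_lit 9])
 (.leaf [nat_lit 32,nat_lit 2,nat_lit 1,nat_lit 4,nat_lit 7,nat_lit 4,nat_lit 6])
) (.node (.leaf [nat_lit 35,nat_lit 2,nat_lit 1,nat_lit 3,nat_lit 8,nat_lit 3,nat_lit 8])
 (.leaf [nat_lit 40,nat_lit 2,nat_lit 0,nat_lit 9,nat_lit 6,nat_lit 9,nat_lit 6])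
)) (.node (.node (.leaf [nat_lit 40,nat_lit 2,nat_lit 1,nat_lit 6,nat_lit 9,nat_lit 7,nat_lit 9])
 (.leaf [nat_lit 31,nat_lit 0,nat_lit 1,nat_lit 3,nat_lit 6,nat_lit 3,nat_lit 7])
) (.leaf [nat_lit 28,nat_lit 2,nat_lit 1,nat_lit 0,nat_lit 7,nat_lit 1,nat_lit 6])
))) (.node (.node (.node (.node (.leaf [nat_lit 37,nat_lit 0,nat_lit 1,nat_lit 1,nat_lit 9,nat_lit 0,nat_lit 9])
 (.leaf [nat_lit 31,nat_lit 2,nat_lit 1,nat_lit 3,nat_lit 7,nat_lit 3,nat_lit 6])
) (.node (.leaf [nat_lit 34,nat_lit 2,nat_lit 1,nat_lit 2,nat_lit 8,nat_lit 4,nat_lit 8])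
 (.leaf [nat_lit 36,nat_lit 4,nat_lit 0,nat_lit 8,nat_lit 6,nat_lit 8,nat_lit 6,nat_lit 8,nat_lit 6])
)) (.node (.node (.leaf [nat_lit 14,nat_lit 0,nat_lit 1,nat_lit 5,nat_lit 4,nat_lit 0,nat_lit 4,nat_lit 0])
 (.leaf [nat_lit 29,nat_lit 0,nat_lit 1,nat_lit 2,nat_lit 6,nat_lit 1,nat_lit 7])
) (.leaf [nat_lit 41,nat_lit 3,nat_lit 1,nat_lit 9,nat_lit 8,nat_lit 9,nat_lit 8,nat_lit 9,nat_lit 8])
)) (.node (.node (.node (.leaf [nat_lit 39,nat_lit 2,nat_lit 1,nat_lit 3,nat_lit 9,nat_lit 4,nat_lit 9])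
 (.leaf [nat_lit 30,nat_lit 0,nat_lit 1,nat_lit 0,nat_lit 6,nat_lit 2,nat_lit 7])
) (.leaf [nat_lit 34,nat_lit 0,nat_lit 1,nat_lit 4,nat_lit 8,nat_lit 2,nat_lit 8])
) (.node (.node (.leaf [nat_lit 33,nat_lit 2,nat_lit 1,nat_lit 0,nat_lit 8,nat_lit 1,nat_lit 8])
 (.leaf [nat_lit 32,nat_lit 0,nat_lit 1,nat_lit 4,nat_lit 6,nat_lit 4,nat_lit 7])
) (.leaf [nat_lit 29,nat_lit 2,nat_lit 1,nat_lit 1,nat_lit 7,nat_lit 2,nat_lit 6])
))))

noncomputable def tH_subs : LT :=
(.leaf [nat_lit 0,nat_lit 0,nat_lit 0,nat_lit 10])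


noncomputable def tH : TC :=
  ⟨fun x c => Nat.shiftRight (BT.get tH_t x) (Nat.mul (nat_lit 23) c),
  (nat_lit 5), (nat_lit 31), (nat_lit 32767), (nat_lit 15), (nat_lit 255), (nat_lit 32736), (nat_lit 5), (nat_lit 5), (nat_lit 10), (nat_lit 9), (nat_lit 10), (nat_lit 11), tH_inv, tH_rules, tH_subs⟩

theorem tH_c1 : tH.rules.all (ruleOK tH.m tH.inv tH_rels) = true := by decide +kernel
theorem tH_c2 : tH.subs.all (subOK tH.m tH.inv tH_hws) = true := by decide +kernel
theorem tH_c3 : tH.base = true := by decide +kernel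

theorem tH_s0 : tH.slots (nat_lit 0) (nat_lit 5) = true := by decide +kernel

theorem tH_c4 : tH.Upto tH.N := ((TC.upto_zero tH).step _ tH_s0)
theorem tH_c5 : tH.UptoE tH.N := (TC.uptoE_n tH)
theorem tH_bound {G : Type*} [Group G] {g : ℕ → G} {H : Subgroup G} (hinv : ∀ x < 10, g x * g (tH_inv x) = 1)
    (hrels : ∀ i, evalW g (tH_rels.get i) = 1) (hH : ∀ x < 9, g x ∈ H) (hhws : ∀ i, evalW g (tH_hws.get i) ∈ H) :
    H.relIndex (genLt g 10) ≠ 0 ∧ H.relIndex (genLt g 10) ≤ 5 :=
  TC.relIndex_le (T := tH) hinv hrels hH hhws tH_c1 tH_c2 tH_c3 tH_c4 tH_c5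

theorem tH_bd : Bound.{u} relH 9 10 5 := fun _ _ _ _ hs hH =>
  tH_bound (hs.hinv (by decide +kernel)) (hs.tree (by decide +kernel)) hH (leaf_nil_mem' _ _ (by decide +kernel))

noncomputable def tM_rels : LT :=
(.node (.node (.node (.node (.node (.node (.leaf [])
 (.leaf [nat_lit 6,nat_lit 4,nat_lit 7,nat_lit 4])
) (.leaf [nat_lit 1,nat_lit 3,nat_lit 1,nat_lit 3,nat_lit 5])
) (.node (.node (.leaf [nat_lit 7,nat_lit 6])
 (.leaf [nat_lit 9,nat_lit 8,nat_lit 9,nat_lit 4,nat_lit 6,nat_lit 8,nat_lit 7,nat_lit 4])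
) (.leaf [nat_lit 5,nat_lit 3,nat_lit 5,nat_lit 3])
)) (.node (.node (.node (.leaf [nat_lit 3,nat_lit 3])
 (.leaf [nat_lit 8,nat_lit 6,nat_lit 8,nat_lit 6,nat_lit 8,nat_lit 6])
) (.leaf [nat_lit 3,nat_lit 4,nat_lit 3,nat_lit 4,nat_lit 5])
) (.node (.leaf [nat_lit 0,nat_lit 2,nat_lit 0,nat_lit 2,nat_lit 5])
 (.leaf [nat_lit 6,nat_lit 0,nat_lit 7,nat_lit 1])
))) (.node (.node (.node (.node (.leaf [nat_lit 1,nat_lit 1])
 (.leaf [nat_lit 8,nat_lit 2,nat_lit 8,nat_lit 4])
) (.leaf [nat_lit 2,nat_lit 3,nat_lit 2,nat_lit 3,nat_lit 5])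
) (.node (.leaf [nat_lit 9,nat_lit 9])
 (.leaf [nat_lit 0,nat_lit 1,nat_lit 2,nat_lit 3,nat_lit 4])
)) (.node (.node (.node (.leaf [nat_lit 5,nat_lit 5])
 (.leaf [nat_lit 9,nat_lit 6,nat_lit 9,nat_lit 7])
) (.leaf [nat_lit 5,nat_lit 1,nat_lit 5,nat_lit 1])
) (.node (.leaf [nat_lit 0,nat_lit 4,nat_lit 0,nat_lit 4,nat_lit 5])
 (.leaf [nat_lit 6,nat_lit 2,nat_lit 7,nat_lit 0])
)))) (.node (.node (.node (.node (.node (.leaf [nat_lit 0,nat_lit 0])
 (.leaf [nat_lit 8,nat_lit 0,nat_lit 8,nat_lit 1])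
) (.leaf [nat_lit 1,nat_lit 4,nat_lit 1,nat_lit 4,nat_lit 5])
) (.node (.leaf [nat_lit 8,nat_lit 8])
 (.leaf [nat_lit 5,nat_lit 4,nat_lit 5,nat_lit 4])
)) (.node (.node (.node (.leaf [nat_lit 4,nat_lit 4])
 (.leaf [nat_lit 9,nat_lit 4,nat_lit 9,nat_lit 4,nat_lit 9,nat_lit 4])
) (.leaf [nat_lit 5,nat_lit 0,nat_lit 5,nat_lit 0])
) (.node (.leaf [nat_lit 0,nat_lit 3,nat_lit 0,nat_lit 3,nat_lit 5])
 (.leaf [nat_lit 6,nat_lit 1,nat_lit 7,nat_lit 2])
))) (.node (.node (.node (.node (.leaf [nat_lit 2,nat_lit 2])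
 (.leaf [nat_lit 8,nat_lit 3,nat_lit 8,nat_lit 3])
) (.leaf [nat_lit 2,nat_lit 4,nat_lit 2,nat_lit 4,nat_lit 5])
) (.node (.leaf [nat_lit 0,nat_lit 1,nat_lit 0,nat_lit 1,nat_lit 5])
 (.leaf [nat_lit 6,nat_lit 6,nat_lit 6])
)) (.node (.node (.node (.leaf [nat_lit 6,nat_lit 7])
 (.leaf [nat_lit 9,nat_lit 3,nat_lit 9,nat_lit 3])
) (.leaf [nat_lit 5,nat_lit 2,nat_lit 5,nat_lit 2])
) (.node (.leaf [nat_lit 1,nat_lit 2,nat_lit 1,nat_lit 2,nat_lit 5])
 (.leaf [nat_lit 6,nat_lit 3,nat_lit 7,nat_lit 3])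
)))))
noncomputable def tM_hws : LT :=
(.leaf [])

noncomputable def tM_inv : ℕ → ℕ := getP (nat_lit 8) (nat_lit 255) (nat_lit 0x9080607050403020100)

noncomputable def tM_t : BT :=
(.node (.node (.node (.node (.leaf (nat_lit 0x7fe0003ff0001ff800004040101e401c000))
 (.leaf (nat_lit 0x2883e80002050720a9000058c0c81c201c080))
) (.leaf (nat_lit 0x382003ff0001ff802c08c401036a01c040))
) (.node (.node (.leaf (nat_lit 0x7fe0000181001ff802409c40102e801c020))
 (.leaf (nat_lit 0x2b28444cb424275a129000ffc0007fe0003ff0))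
) (.leaf (nat_lit 0x3ca003ff0062099000069008816201c060))
)) (.node (.node (.node (.leaf (nat_lit 0x7fe0003ff000009081c0a0401022601c010))
 (.leaf (nat_lit 0x2c842a003ff0001ff802c0988000140008091))
) (.leaf (nat_lit 0x7fe0003ff0001ff802b0a8805852201c050))
) (.node (.node (.leaf (nat_lit 0x7fe0003ff0001ff80230ac80081a201c030))
 (.leaf (nat_lit 0x40820020210010088008004002120000000))
) (.leaf (nat_lit 0x2483aa104192001ff8000050c00018201c070))
)))

noncomputable def tM_rules : LT :=
(.node (.node (.node (.node (.leaf [nat_lit 39,nat_lit 2,nat_lit 1,nat_lit 3,nat_lit 9,nat_lit 3,nat_lit 9])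
 (.leaf [nat_lit 30,nat_lit 1,nat_lit 1,nat_lit 7,nat_lit 2,nat_lit 7,nat_lit 0])
) (.node (.leaf [nat_lit 16,nat_lit 1,nat_lit 1,nat_lit 3,nat_lit 1,nat_lit 3,nat_lit 1,nat_lit 5])
 (.leaf [nat_lit 40,nat_lit 1,nat_lit 1,nat_lit 10,nat_lit 6,nat_lit 8,nat_lit 7,nat_lit 4,nat_lit 9,nat_lit 8,nat_lit 9,nat_lit 4])
)) (.node (.node (.leaf [nat_lit 38,nat_lit 2,nat_lit 1,nat_lit 6,nat_lit 9,nat_lit 6,nat_lit 9])
 (.leaf [nat_lit 34,nat_lit 3,nat_lit 1,nat_lit 8,nat_lit 4,nat_lit 8,nat_lit 2])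
) (.leaf [nat_lit 28,nat_lit 3,nat_lit 1,nat_lit 6,nat_lit 1,nat_lit 6,nat_lit 0])
)) (.node (.node (.node (.leaf [nat_lit 11,nat_lit 0,nat_lit 1,nat_lit 5,nat_lit 1,nat_lit 0,nat_lit 1,nat_lit 0])
 (.leaf [nat_lit 32,nat_lit 1,nat_lit 1,nat_lit 7,nat_lit 4,nat_lit 7,nat_lit 4])
) (.leaf [nat_lit 11,nat_lit 4,nat_lit 0,nat_lit 5,nat_lit 0,nat_lit 1,nat_lit 0,nat_lit 1])
) (.node (.node (.leaf [nat_lit 40,nat_lit 6,nat_lit 1,nat_lit 8,nat_lit 9,nat_lit 4,nat_lit 6,nat_lit 8,nat_lit 7,nat_lit 4,nat_lit 9])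
 (.leaf [nat_lit 37,nat_lit 3,nat_lit 1,nat_lit 9,nat_lit 4,nat_lit 9,nat_lit 4,nat_lit 9,nat_lit 4])
) (.leaf [nat_lit 33,nat_lit 3,nat_lit 1,nat_lit 8,nat_lit 1,nat_lit 8,nat_lit 0])
)))

noncomputable def tM_subs : LT :=
(.leaf [nat_lit 0,nat_lit 0,nat_lit 0,nat_lit 10])


noncomputable def tM : TC :=
  ⟨fun x c => Nat.shiftRight (BT.get tM_t x) (Nat.mul (nat_lit 25) c),
  (nat_lit 4), (nat_lit 15), (nat_lit 16383), (nat_lit 14), (nat_lit 2047), (nat_lit 16368), (nat_lit 3), (nat_lit 6), (nat_lit 10), (nat_lit 9), (nat_lit 10), (nat_lit 11), tM_inv, tM_rules, tM_subs⟩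

theorem tM_c1 : tM.rules.all (ruleOK tM.m tM.inv tM_rels) = true := by decide +kernel
theorem tM_c2 : tM.subs.all (subOK tM.m tM.inv tM_hws) = true := by decide +kernel
theorem tM_c3 : tM.base = true := by decide +kernel

theorem tM_s0 : tM.slots (nat_lit 0) (nat_lit 6) = true := by decide +kernel

theorem tM_e0 : allRange (nat_lit 3) (nat_lit 3) tM.slotE = true := by decide +kernel

theorem tM_c4 : tM.Upto tM.N := ((TC.upto_zero tM).step _ tM_s0)
theorem tM_c5 : tM.UptoE tM.N := ((TC.uptoE_n tM).step _ tM_e0)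
theorem tM_bound {G : Type*} [Group G] {g : ℕ → G} {H : Subgroup G} (hinv : ∀ x < 10, g x * g (tM_inv x) = 1)
    (hrels : ∀ i, evalW g (tM_rels.get i) = 1) (hH : ∀ x < 9, g x ∈ H) (hhws : ∀ i, evalW g (tM_hws.get i) ∈ H) :
    H.relIndex (genLt g 10) ≠ 0 ∧ H.relIndex (genLt g 10) ≤ 3 :=
  TC.relIndex_le (T := tM) hinv hrels hH hhws tM_c1 tM_c2 tM_c3 tM_c4 tM_c5

theorem tM_bd : Bound.{u} relM 9 10 3 := fun _ _ _ _ hs hH =>
  tM_bound (hs.hinv (by decide +kernel)) (hs.tree (by decide +kernel)) hH (leaf_nil_mem' _ _ (by decide +kernel))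

theorem presQ : Pres.{u} relQ 6 32 := pres_nil.step tQ_bd (by decide +kernel)

theorem presB : Pres.{u} relB 9 384 := presQ.step tB_bd (by decide +kernel)

theorem presH : Pres.{u} relH 10 1920 := presB.step tH_bd (by decide +kernel)

theorem presM : Pres.{u} relM 10 1152 := presB.step tM_bd (by decide +kernel)

theorem cH_ok : allL cH A_v = true := by decide +kernel

theorem cM_ok : allL cM A_v = true := by decide +kernel

theorem relH_ok : allL relH (fun w => Nat.beq (evC A cH w) A.one) = true := by decide +kernel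

theorem relM_ok : allL relM (fun w => Nat.beq (evC A cM w) A.one) = true := by decide +kernel

end Cfsg.Agent.Rec.J23
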