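import Mathlib
import Cfsg.Agent.Spor.Comp.Chain
import Cfsg.Agent.Rec.J23.TJ3D0
import Cfsg.Agent.Rec.J23.TJ3D1

/-! Generated by tools/pg: coset enumeration tJ3 -/

set_option autoImplicit false
set_option maxRecDepth 100000
set_option linter.unusedVariables false
set_option exponentiation.threshold 100000

namespace Cfsg.Agent.Rec.J23

open Cfsg.Agent.Spor

noncomputable def tJ3_rels : LT :=
(.node (.node (.node (.node (.node (.node (.leaf [])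
 (.leaf [nat_lit 6,nat_lit 1,nat_lit 7,nat_lit 2])
) (.node (.leaf [nat_lit 0,nat_lit 3,nat_lit 0,nat_lit 3,nat_lit 5])
 (.leaf [nat_lit 10,nat_lit 8,nat_lit 10,nat_lit 4,nat_lit 6,nat_lit 8,nat_lit 7,nat_lit 4])
)) (.node (.node (.leaf [nat_lit 7,nat_lit 6])
 (.leaf [nat_lit 9,nat_lit 0,nat_lit 9,nat_lit 1])
) (.node (.leaf [nat_lit 5,nat_lit 0,nat_lit 5,nat_lit 0])
 (.leaf [nat_lit 12,nat_lit 6,nat_lit 12,nat_lit 4,nat_lit 10,nat_lit 7])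
))) (.node (.node (.node (.leaf [nat_lit 3,nat_lit 3])
 (.leaf [nat_lit 8,nat_lit 0,nat_lit 8,nat_lit 1])
) (.node (.leaf [nat_lit 1,nat_lit 4,nat_lit 1,nat_lit 4,nat_lit 5])
 (.leaf [nat_lit 10,nat_lit 4,nat_lit 3,nat_lit 11,nat_lit 10,nat_lit 4,nat_lit 3,nat_lit 11,nat_lit 10,nat_lit 4,nat_lit 3,nat_lit 11,nat_lit 10,nat_lit 4,nat_lit 3,nat_lit 11])
)) (.node (.node (.leaf [nat_lit 11,nat_lit 11])
 (.leaf [nat_lit 9,nat_lit 8,nat_lit 9,nat_lit 8,nat_lit 9,nat_lit 8])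
) (.leaf [nat_lit 5,nat_lit 4,nat_lit 5,nat_lit 4])
))) (.node (.node (.node (.node (.leaf [nat_lit 1,nat_lit 1])
 (.leaf [nat_lit 6,nat_lit 3,nat_lit 7,nat_lit 3])
) (.node (.leaf [nat_lit 1,nat_lit 2,nat_lit 1,nat_lit 2,nat_lit 5])
 (.leaf [nat_lit 10,nat_lit 11,nat_lit 10,nat_lit 11,nat_lit 10,nat_lit 11,nat_lit 10,nat_lit 11,nat_lit 10,nat_lit 11])
)) (.node (.node (.leaf [nat_lit 9,nat_lit 9])
 (.leaf [nat_lit 9,nat_lit 3,nat_lit 9,nat_lit 4])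
) (.node (.leaf [nat_lit 5,nat_lit 2,nat_lit 5,nat_lit 2])
 (.leaf [nat_lit 12,nat_lit 4,nat_lit 12,nat_lit 4,nat_lit 12,nat_lit 5,nat_lit 11,nat_lit 10,nat_lit 11,nat_lit 5])
))) (.node (.node (.node (.leaf [nat_lit 5,nat_lit 5])
 (.leaf [nat_lit 8,nat_lit 3,nat_lit 8,nat_lit 3])
) (.node (.leaf [nat_lit 2,nat_lit 4,nat_lit 2,nat_lit 4,nat_lit 5])
 (.leaf [nat_lit 12,nat_lit 3,nat_lit 12,nat_lit 7,nat_lit 8,nat_lit 6])
)) (.node (.node (.leaf [nat_lit 0,nat_lit 1,nat_lit 0,nat_lit 1,nat_lit 5])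
 (.leaf [nat_lit 10,nat_lit 6,nat_lit 10,nat_lit 7])
) (.leaf [nat_lit 6,nat_lit 6,nat_lit 6])
)))) (.node (.node (.node (.node (.node (.leaf [nat_lit 0,nat_lit 0])
 (.leaf [nat_lit 6,nat_lit 2,nat_lit 7,nat_lit 0])
) (.node (.leaf [nat_lit 0,nat_lit 4,nat_lit 0,nat_lit 4,nat_lit 5])
 (.leaf [nat_lit 9,nat_lit 10,nat_lit 9,nat_lit 11])
)) (.node (.node (.leaf [nat_lit 8,nat_lit 8])
 (.leaf [nat_lit 9,nat_lit 2,nat_lit 9,nat_lit 2])
) (.node (.leaf [nat_lit 5,nat_lit 1,nat_lit 5,nat_lit 1])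
 (.leaf [nat_lit 12,nat_lit 4,nat_lit 8,nat_lit 4,nat_lit 12,nat_lit 4,nat_lit 8,nat_lit 4,nat_lit 12,nat_lit 4,nat_lit 8,nat_lit 4])
))) (.node (.node (.node (.leaf [nat_lit 4,nat_lit 4])
 (.leaf [nat_lit 8,nat_lit 2,nat_lit 8,nat_lit 4])
) (.node (.leaf [nat_lit 2,nat_lit 3,nat_lit 2,nat_lit 3,nat_lit 5])
 (.leaf [nat_lit 12,nat_lit 5,nat_lit 12,nat_lit 8])
)) (.node (.node (.leaf [nat_lit 12,nat_lit 12])
 (.leaf [nat_lit 10,nat_lit 4,nat_lit 10,nat_lit 4,nat_lit 10,nat_lit 4])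
) (.leaf [nat_lit 0,nat_lit 1,nat_lit 2,nat_lit 3,nat_lit 4])
))) (.node (.node (.node (.node (.leaf [nat_lit 2,nat_lit 2])
 (.leaf [nat_lit 6,nat_lit 4,nat_lit 7,nat_lit 4])
) (.node (.leaf [nat_lit 1,nat_lit 3,nat_lit 1,nat_lit 3,nat_lit 5])
 (.leaf [nat_lit 10,nat_lit 4,nat_lit 11,nat_lit 10,nat_lit 4,nat_lit 11,nat_lit 10,nat_lit 4,nat_lit 11,nat_lit 10,nat_lit 4,nat_lit 11,nat_lit 10,nat_lit 4,nat_lit 11])
)) (.node (.node (.leaf [nat_lit 10,nat_lit 10])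
 (.leaf [nat_lit 9,nat_lit 6,nat_lit 9,nat_lit 6])
) (.leaf [nat_lit 5,nat_lit 3,nat_lit 5,nat_lit 3])
)) (.node (.node (.node (.leaf [nat_lit 6,nat_lit 7])
 (.leaf [nat_lit 8,nat_lit 6,nat_lit 8,nat_lit 6,nat_lit 8,nat_lit 6])
) (.node (.leaf [nat_lit 3,nat_lit 4,nat_lit 3,nat_lit 4,nat_lit 5])
 (.leaf [nat_lit 12,nat_lit 4,nat_lit 10,nat_lit 12,nat_lit 4,nat_lit 10])
)) (.node (.node (.leaf [nat_lit 0,nat_lit 2,nat_lit 0,nat_lit 2,nat_lit 5])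
 (.leaf [nat_lit 10,nat_lit 3,nat_lit 10,nat_lit 3])
) (.leaf [nat_lit 6,nat_lit 0,nat_lit 7,nat_lit 1])
)))))
noncomputable def tJ3_hws : LT :=
(.leaf [])

noncomputable def tJ3_inv : ℕ → ℕ := getP (nat_lit 8) (nat_lit 255) (nat_lit 0xc0b0a09080607050403020100)

noncomputable def tJ3_t15 : BT :=
(.node (.node (.node (.node (.node (.node (.node (.node (.leaf (nat_lit 0)) (.leaf (nat_lit 0))) (.leaf (nat_lit 0))) (.node (.leaf (nat_lit 0)) (.leaf (nat_lit 0)))) (.node (.node (.leaf (nat_lit 0)) (.leaf (nat_lit 0))) (.node (.leaf (nat_lit 0)) (.leaf (nat_lit 0))))) (.node (.node (.node (.leaf (nat_lit 0)) (.leaf (nat_lit 0))) (.node (.leaf (nat_lit 0)) (.leaf (nat_lit 0)))) (.node (.node (.leaf (nat_lit 0)) (.leaf (nat_lit 0))) (.node (.leaf (nat_lit 0)) (.leaf (nat_lit 0)))))) (.node (.node (.node (.node (.leaf (nat_lit 0)) (.leaf (nat_lit 0))) (.node (.leaf (nat_lit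 0)) (.leaf (nat_lit 0)))) (.node (.node (.leaf (nat_lit 0)) (.leaf (nat_lit 0))) (.node (.leaf (nat_lit 0)) (.leaf (nat_lit 0))))) (.node (.node (.node (.leaf (nat_lit 0)) (.leaf (nat_lit 0))) (.node (.leaf (nat_lit 0)) (.leaf (nat_lit 0)))) (.node (.node (.leaf (nat_lit 0)) (.leaf (nat_lit 0))) (.node (.leaf (nat_lit 0)) (.leaf (nat_lit 0))))))) (.node (.node (.node (.node (.node (.leaf (nat_lit 0)) (.leaf (nat_lit 0))) (.node (.leaf (nat_lit 0)) (.leaf (nat_lit 0)))) (.node (.node (.leaf (nat_lit 0)) (.leaf (nat_lit 0))) (.node (.leaf (nat_lit 0)) (.leaf (nat_lit 0))))) (.node (.node (.node (.leaf (nat_lit 0)) (.leaf (nat_lit 0))) (.node (.leaf (nat_lit 0)) (.leaf (nat_lit 0)))) (.node (.node (.leaf (nat_lit 0)) (.leaf (nat_lit 0))) (.node (.leaf (nat_lit 0)) (.leaf (nat_lit 0)))))) (.node (.node (.node (.node (.leaf (nat_lit 0)) (.leaf (nat_lit 0))) (.node (.leaf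 (nat_lit 0)) (.leaf (nat_lit 0)))) (.node (.node (.leaf (nat_lit 0)) (.leaf (nat_lit 0))) (.node (.leaf (nat_lit 0)) (.leaf (nat_lit 0))))) (.node (.node (.node (.leaf (nat_lit 0)) (.leaf (nat_lit 0))) (.node (.leaf (nat_lit 0)) (.leaf (nat_lit 0)))) (.node (.node (.leaf (nat_lit 0)) (.leaf (nat_lit 0))) (.node (.leaf (nat_lit 0)) (.leaf (nat_lit 0)))))))) (.node (.node (.node (.node (.node (.node (.leaf (nat_lit 0)) (.leaf (nat_lit 0))) (.node (.leaf (nat_lit 0)) (.leaf (nat_lit 0)))) (.node (.node (.leaf (nat_lit 0)) (.leaf (nat_lit 0))) (.node (.leaf (nat_lit 0)) (.leaf (nat_lit 0))))) (.node (.node (.node (.leaf (nat_lit 0)) (.leaf (nat_lit 0))) (.node (.leaf (nat_lit 0)) (.leaf (nat_lit 0)))) (.node (.node (.leaf (nat_lit 0)) (.leaf (nat_lit 0))) (.node (.leaf (nat_lit 0)) (.leaf (nat_lit 0)))))) (.node (.node (.node (.node (.leaf (nat_lit 0)) (.leaf (nat_lit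 0))) (.node (.leaf (nat_lit 0)) (.leaf (nat_lit 0)))) (.node (.node (.leaf (nat_lit 0)) (.leaf (nat_lit 0))) (.node (.leaf (nat_lit 0)) (.leaf (nat_lit 0))))) (.node (.node (.node (.leaf (nat_lit 0)) (.leaf (nat_lit 0))) (.node (.leaf (nat_lit 0)) (.leaf (nat_lit 0)))) (.node (.node (.leaf (nat_lit 0)) (.leaf (nat_lit 0))) (.node (.leaf (nat_lit 0)) (.leaf (nat_lit 0))))))) (.node (.node (.node (.node (.node (.leaf (nat_lit 0)) (.leaf (nat_lit 0))) (.node (.leaf (nat_lit 0)) (.leaf (nat_lit 0)))) (.node (.node (.leaf (nat_lit 0)) (.leaf (nat_lit 0))) (.node (.leaf (nat_lit 0)) (.leaf (nat_lit 0))))) (.node (.node (.node (.leaf (nat_lit 0)) (.leaf (nat_lit 0))) (.node (.leaf (nat_lit 0)) (.leaf (nat_lit 0)))) (.node (.node (.leaf (nat_lit 0)) (.leaf (nat_lit 0))) (.node (.leaf (nat_lit 0)) (.leaf (nat_lit 0)))))) (.node (.node (.node (.node (.leaf (nat_lit 0)) (.leaf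 (nat_lit 0))) (.node (.leaf (nat_lit 0)) (.leaf (nat_lit 0)))) (.node (.node (.leaf (nat_lit 0)) (.leaf (nat_lit 0))) (.node (.leaf (nat_lit 0)) (.leaf (nat_lit 0))))) (.node (.node (.node (.leaf (nat_lit 0)) (.leaf (nat_lit 0))) (.node (.leaf (nat_lit 0)) (.leaf (nat_lit 0)))) (.node (.node (.leaf (nat_lit 0)) (.leaf (nat_lit 0))) (.node (.leaf (nat_lit 0)) (.leaf (nat_lit 0)))))))))

noncomputable def tJ3_t : BT :=
(.node (.node (.node (.node tJ3_t0 tJ3_t8) (.node tJ3_t4 tJ3_t12)) (.node (.node tJ3_t2 tJ3_t10) (.node tJ3_t6 tJ3_t14))) (.node (.node (.node tJ3_t1 tJ3_t9) (.node tJ3_t5 tJ3_t13)) (.node (.node tJ3_t3 tJ3_t11) (.node tJ3_t7 tJ3_t15))))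

noncomputable def tJ3_subs : LT :=
(.leaf [nat_lit 0,nat_lit 0,nat_lit 0,nat_lit 13])


noncomputable def tJ3 : TC :=
  ⟨fun x c => Nat.rec (nat_lit 0) (fun j _ => Nat.shiftRight (chunk tJ3_t (nat_lit 4) x j) (Nat.mul (nat_lit 58) (Nat.land c (nat_lit 255)))) (Nat.add (Nat.shiftRight c (nat_lit 8)) (nat_lit 1)),
  (nat_lit 16), (nat_lit 65535), (nat_lit 0x7ffffffff), (nat_lit 35), (nat_lit 0x7fffff), (nat_lit 0x7ffff0000), (nat_lit 26163), (nat_lit 32964), (nat_lit 13), (nat_lit 10), (nat_lit 13), (nat_lit 14), tJ3_inv, tJ3_rules, tJ3_subs⟩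

end Cfsg.Agent.Rec.J23
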